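import Cfsg.Agent.Mrg.Omega.NO3S.EThree.Qt
import Cfsg.Agent.Omega.NO3S.EThree.TBig
import Cfsg.Agent.PLocal.OffenderStep
import Cfsg.Agent.Mrg.Omega.OM.PG.ExactQ
import Cfsg.Agent.Mrg.Omega.OM.PT.Pc
import Cfsg.Agent.Mrg.Omega.OM.PT.PTW

-- merged: Cfsg.Agent.Mrg.Omega.OM.TV.Base
section

section


/-!
# Two types of points, no swap (helper918, TEXT W2 #24006 (6)): base

Points are the conjugates of `Z 0` and of `Z 1`, lines the conjugates of `U 0`, `U 1`;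
`Adj Z a u` : `(a, u)` is conjugate to `(Z i, Z (i + 1))`; `NN Z a = ⟨u : u ~ a⟩`; `LnOn Z U a l` : `(a, l)` is conjugate
to `(Z i, U i)`.

`TQ0 Z U` : the transvection case `1 ≠ [N_0, N_1] ≤ Z_0Z_1`, `|Z_0| = |Z_1|`; the facts of `NO3S/EThree/TQ.lean` which do
not use the index.
-/

set_option autoImplicit false
set_option linter.unusedSectionVars false

namespace Cfsg.Agent.Omega.OM.TV

open Subgroup Cfsg Cfsg.Agent.ZN Cfsg.Agent.Omega.MinPar
open Cfsg.Agent.Omega.NoFF.Basic (conj_conj mem_conj conj_le_iff conj_le_centralizer comm_symm comm_mono)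
open Cfsg.Agent.Omega.NOThreeL.Pair (conj_eq_of_mem)
open Cfsg.Agent.Omega.OM.PG (HH QQ HH_conj QQ_conj conj_inv_conj inv_conj_conj)
open Cfsg.Agent.Omega.NO3S.EThree (conj_sup' conj_centralizer relIndex_conj mem_sup_of_comm norm_conj conj_norm
  conj_normalizer mem_conj_self)
open scoped Pointwise

universe u

variable {G : Type u} [Group G]

/-- `a` is a point. -/
def IsPt (Z : Fin 2 → Subgroup G) (a : Subgroup G) : Prop := ∃ (i : Fin 2) (k : G), a = MulAut.conj k • Z i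

/-- `a ~ u` -/
def Adj (Z : Fin 2 → Subgroup G) (a u : Subgroup G) : Prop :=
  ∃ (i : Fin 2) (k : G), a = MulAut.conj k • Z i ∧ u = MulAut.conj k • Z (i + 1)

/-- `l` is a line on the point `a`. -/
def LnOn (Z U : Fin 2 → Subgroup G) (a l : Subgroup G) : Prop :=
  ∃ (i : Fin 2) (k : G), a = MulAut.conj k • Z i ∧ l = MulAut.conj k • U i

/-- `N_a = ⟨u : u ~ a⟩` -/
def NN (Z : Fin 2 → Subgroup G) (a : Subgroup G) : Subgroup G := sSup {u | Adj Z a u}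

theorem f2 (i : Fin 2) : i + 1 + 1 = i := by
  revert i
  decide

theorem f01 (i : Fin 2) : i = 0 ∨ i = 1 := by
  revert i
  decide

section conj

variable {Z U : Fin 2 → Subgroup G} {a u l : Subgroup G}

theorem IsPt.conj (h : IsPt Z a) (g : G) : IsPt Z (MulAut.conj g • a) := by
  obtain ⟨i, k, rfl⟩ := h
  exact ⟨i, g * k, conj_conj _ _ _⟩

theorem Adj.conj (h : Adj Z a u) (g : G) : Adj Z (MulAut.conj g • a) (MulAut.conj g • u) := by
  obtain ⟨i, k, rfl, rfl⟩ := h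
  exact ⟨i, g * k, conj_conj _ _ _, conj_conj _ _ _⟩

theorem LnOn.conj (h : LnOn Z U a l) (g : G) : LnOn Z U (MulAut.conj g • a) (MulAut.conj g • l) := by
  obtain ⟨i, k, rfl, rfl⟩ := h
  exact ⟨i, g * k, conj_conj _ _ _, conj_conj _ _ _⟩

theorem Adj.pt (h : Adj Z a u) : IsPt Z a := by
  obtain ⟨i, k, rfl, -⟩ := h
  exact ⟨i, k, rfl⟩

theorem Adj.le_NN (h : Adj Z a u) : u ≤ NN Z a := le_sSup h

theorem Adj.symm (h : Adj Z a u) : Adj Z u a := by
  obtain ⟨i, k, rfl, rfl⟩ := h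
  exact ⟨i + 1, k, rfl, by rw [f2]⟩

theorem isPt_Z (i : Fin 2) : IsPt Z (Z i) := ⟨i, 1, by rw [map_one, one_smul]⟩

theorem adj_Z (i : Fin 2) : Adj Z (Z i) (Z (i + 1)) := ⟨i, 1, by rw [map_one, one_smul], by rw [map_one, one_smul]⟩

theorem NN_conj (g : G) (a : Subgroup G) : NN Z (MulAut.conj g • a) = MulAut.conj g • NN Z a := by
  have key : ∀ (g : G) (a : Subgroup G), MulAut.conj g • NN Z a ≤ NN Z (MulAut.conj g • a) := by
    intro g a
    have h1 : NN Z a ≤ MulAut.conj g⁻¹ • NN Z (MulAut.conj g • a) := by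
      refine sSup_le fun u hu => ?_
      have h2 := (Adj.conj hu g).le_NN
      have h3 := conj_le_iff (g := g⁻¹) |>.2 h2
      rwa [inv_conj_conj] at h3
    have h3 := conj_le_iff (g := g) |>.2 h1
    rwa [conj_inv_conj] at h3
  refine le_antisymm ?_ (key g a)
  have h1 := key g⁻¹ (MulAut.conj g • a)
  rw [inv_conj_conj] at h1
  have h3 := conj_le_iff (g := g) |>.2 h1
  rwa [conj_inv_conj] at h3

theorem HH_le_NN (a : Subgroup G) : HH a ≤ normalizer (NN Z a : Set G) := by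
  intro g hg
  have h0 : MulAut.conj g • a = a := conj_eq_of_mem hg
  refine ChoiceBase.mem_normalizer_iff_cj.2 ?_
  change MulAut.conj g • NN Z a = NN Z a
  rw [← NN_conj, h0]

end conj

/-- the transvection case, two types of points -/
structure TQ0 (Z U : Fin 2 → Subgroup G) : Prop where
  ZU : ∀ i, Z i ≤ U i
  sq : ∀ i, ∀ x ∈ Z i, x ^ 2 = 1
  ne : ∀ i, Z i ≠ ⊥
  /-- a group normalising `Z (i + 1)`, `U 0`, `U 1` is transitive on the points of `U i` -/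
  tr : ∀ (i : Fin 2) (y : Subgroup G), IsPt Z y → y ≤ U i → ∃ l : G, MulAut.conj l • Z i = y ∧
    MulAut.conj l • Z (i + 1) = Z (i + 1) ∧ MulAut.conj l • U i = U i ∧ MulAut.conj l • U (i + 1) = U (i + 1)
  NQ : ∀ i, NN Z (Z i) ≤ QQ (Z i)
  QC : ∀ i, QQ (Z i) ≤ centralizer (NN Z (Z i) : Set G)
  nonLoc : NonLoc (HH (Z 0)) (HH (Z 1))
  card : Nat.card (Z 1) = Nat.card (Z 0)
  ti : ∀ a b, IsPt Z a → IsPt Z b → ∀ x ∈ a, x ∈ b → x ≠ 1 → a = b
  fus : ∀ a, IsPt Z a → ∀ x ∈ a, x ∈ Z 0 ⊔ Z 1 → x ≠ 1 → a = Z 0 ∨ a = Z 1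
  self : ∀ i, NN Z (Z i) ≤ centralizer (Z i : Set G)
  com : ∀ n ∈ NN Z (Z 0), ∀ t ∈ NN Z (Z 1), n * t * n⁻¹ * t⁻¹ ∈ Z 0 ⊔ Z 1
  nc : ¬ NN Z (Z 0) ≤ centralizer (NN Z (Z 1) : Set G)
  pts : ∀ i, ∀ x ∈ U i, x ≠ 1 → ∃ w, IsPt Z w ∧ w ≤ U i ∧ x ∈ w
  cardU : ∀ i, Nat.card (U i) = Nat.card (Z 0) ^ 2
  UQ' : ∀ i, U i ≤ QQ (Z i)

/-- The transvection case with the index. -/
structure TQ (Z U : Fin 2 → Subgroup G) : Prop extends TQ0 Z U where
  idx : ∀ i, (centralizer (NN Z (Z (i + 1)) : Set G)).relIndex (NN Z (Z i)) = Nat.card (Z 0)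

namespace TQ0

variable [Finite G] {Z U : Fin 2 → Subgroup G} (P : TQ0 Z U)
include P

theorem adj_symm {a u : Subgroup G} (h : Adj Z a u) : Adj Z u a := h.symm

theorem adj_pt {a u : Subgroup G} (h : Adj Z a u) : IsPt Z u := h.symm.pt

theorem NN_le_QQ {a : Subgroup G} (h : IsPt Z a) : NN Z a ≤ QQ a := by
  obtain ⟨i, k, rfl⟩ := h
  rw [NN_conj, QQ_conj]
  exact conj_le_iff.2 (P.NQ i)

theorem QQ_le_cent {a : Subgroup G} (h : IsPt Z a) : QQ a ≤ centralizer (NN Z a : Set G) := by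
  obtain ⟨i, k, rfl⟩ := h
  rw [NN_conj, QQ_conj]
  exact conj_le_centralizer (P.QC i)

theorem NN_comm {a : Subgroup G} (h : IsPt Z a) : NN Z a ≤ centralizer (NN Z a : Set G) :=
  (P.NN_le_QQ h).trans (P.QQ_le_cent h)

/-- `a ~ u`: `Q_u` centralises `a`. -/
theorem QQ_le_cent_of_adj {a u : Subgroup G} (h : Adj Z a u) : QQ u ≤ centralizer (a : Set G) :=
  (P.QQ_le_cent (P.adj_pt h)).trans (centralizer_le (P.adj_symm h).le_NN)

theorem ZsqConj {a : Subgroup G} (h : IsPt Z a) : ∀ x ∈ a, x ^ 2 = 1 := by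
  obtain ⟨i, k, rfl⟩ := h
  exact NoFF.Lines.Geo.conj_sq (P.sq i) k

theorem cardZ (i : Fin 2) : Nat.card (Z i) = Nat.card (Z 0) := by
  rcases f01 i with h | h
  · subst h; rfl
  · subst h; exact P.card

theorem card_pt {a : Subgroup G} (h : IsPt Z a) : Nat.card a = Nat.card (Z 0) := by
  obtain ⟨i, k, rfl⟩ := h
  rw [← P.cardZ i]
  exact (Nat.card_congr (Subgroup.equivSMul (MulAut.conj k) (Z i)).toEquiv).symm

theorem exists_ne {a : Subgroup G} (h : IsPt Z a) : ∃ x ∈ a, x ≠ 1 := by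
  by_contra hcon
  push Not at hcon
  have h1 : a = ⊥ := (eq_bot_iff_forall _).2 hcon
  have h2 := P.card_pt h
  rw [h1, card_bot] at h2
  exact P.ne 0 (Subgroup.card_eq_one.1 h2.symm)

theorem fusZ (i : Fin 2) {w : Subgroup G} (hw : IsPt Z w) {x : G} (hx : x ∈ w) (hx' : x ∈ Z i ⊔ Z (i + 1))
    (hx1 : x ≠ 1) : w = Z i ∨ w = Z (i + 1) := by
  rcases f01 i with h | h
  · subst h
    exact P.fus w hw x hx hx' hx1
  · subst h
    have e : (1 : Fin 2) + 1 = 0 := rfl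
    rw [e] at hx' ⊢
    rw [sup_comm] at hx'
    exact (P.fus w hw x hx hx' hx1).symm

theorem fus' {a u w : Subgroup G} (h : Adj Z a u) (hw : IsPt Z w) {x : G} (hx : x ∈ w) (hx' : x ∈ a ⊔ u)
    (hx1 : x ≠ 1) : w = a ∨ w = u := by
  obtain ⟨i, k, rfl, rfl⟩ := h
  rw [← conj_sup', mem_conj] at hx'
  have h1 : k⁻¹ * x * k ∈ MulAut.conj k⁻¹ • w := by
    rw [mem_conj]
    have : k⁻¹⁻¹ * (k⁻¹ * x * k) * k⁻¹ = x := by group
    rwa [this]
  have h2 : k⁻¹ * x * k ≠ 1 := by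
    intro e
    apply hx1
    have : x = k * (k⁻¹ * x * k) * k⁻¹ := by group
    rw [this, e]; group
  rcases P.fusZ i (hw.conj k⁻¹) h1 hx' h2 with h3 | h3
  · left; rw [← h3, conj_inv_conj]
  · right; rw [← h3, conj_inv_conj]

theorem self' {a : Subgroup G} (h : IsPt Z a) : NN Z a ≤ centralizer (a : Set G) := by
  obtain ⟨i, k, rfl⟩ := h
  rw [NN_conj]
  exact conj_le_centralizer (P.self i)

theorem self_le {a : Subgroup G} (h : IsPt Z a) : a ≤ centralizer (NN Z a : Set G) := comm_symm (P.self' h)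

/-- `N_u` centralises `a ~ u`. -/
theorem NN_le_cent {a u : Subgroup G} (h : Adj Z a u) : NN Z u ≤ centralizer (a : Set G) :=
  (P.NN_le_QQ (P.adj_pt h)).trans (P.QQ_le_cent_of_adj h)

theorem comZ (i : Fin 2) {n t : G} (hn : n ∈ NN Z (Z i)) (ht : t ∈ NN Z (Z (i + 1))) :
    n * t * n⁻¹ * t⁻¹ ∈ Z i ⊔ Z (i + 1) := by
  rcases f01 i with h | h
  · subst h
    exact P.com n hn t ht
  · subst h
    have e : (1 : Fin 2) + 1 = 0 := rfl
    rw [e] at ht ⊢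
    rw [sup_comm]
    have h1 := inv_mem (P.com t ht n hn)
    have e1 : (t * n * t⁻¹ * n⁻¹)⁻¹ = n * t * n⁻¹ * t⁻¹ := by group
    rwa [e1] at h1

theorem com' {a u : Subgroup G} (h : Adj Z a u) {n t : G} (hn : n ∈ NN Z a) (ht : t ∈ NN Z u) :
    n * t * n⁻¹ * t⁻¹ ∈ a ⊔ u := by
  obtain ⟨i, k, rfl, rfl⟩ := h
  rw [NN_conj, mem_conj] at hn ht
  rw [← conj_sup', mem_conj]
  have := P.comZ i hn ht
  have e : k⁻¹ * n * k * (k⁻¹ * t * k) * (k⁻¹ * n * k)⁻¹ * (k⁻¹ * t * k)⁻¹ = k⁻¹ * (n * t * n⁻¹ * t⁻¹) * k := by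
    group
  rwa [e] at this

theorem one_lt : 1 < Nat.card (Z 0) := by
  have h1 : Nat.card (Z 0) ≠ 1 := fun e => P.ne 0 (Subgroup.card_eq_one.1 e)
  have h2 : 0 < Nat.card (Z 0) := Nat.card_pos
  omega

theorem ncZ (i : Fin 2) : ¬ NN Z (Z i) ≤ centralizer (NN Z (Z (i + 1)) : Set G) := by
  rcases f01 i with h | h
  · subst h
    exact P.nc
  · subst h
    exact fun h1 => P.nc (comm_symm h1)

theorem not_com {a u : Subgroup G} (h : Adj Z a u) : ¬ NN Z a ≤ centralizer (NN Z u : Set G) := by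
  intro h1
  obtain ⟨i, k, rfl, rfl⟩ := h
  apply P.ncZ i
  rw [NN_conj, NN_conj, ← conj_centralizer] at h1
  exact conj_le_iff.1 h1

theorem adj_ne {a u : Subgroup G} (h : Adj Z a u) : a ≠ u := by
  rintro rfl
  exact P.not_com h (P.NN_comm h.pt)

theorem pt_le_NN {a u : Subgroup G} (h : Adj Z a u) : u ≤ NN Z a := h.le_NN

/-- if `t` centralises an element `≠ 1` of the point `w` (or maps it into `w`), it normalises `w` -/
theorem norm_of {w : Subgroup G} (hw : IsPt Z w) {x t : G} (hx : x ∈ w) (hx1 : x ≠ 1) (h : t * x * t⁻¹ ∈ w) :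
    MulAut.conj t • w = w := by
  refine P.ti _ _ (hw.conj t) hw (t * x * t⁻¹) ?_ h ?_
  · rw [mem_conj]
    have : t⁻¹ * (t * x * t⁻¹) * t = x := by group
    rwa [this]
  · intro e
    exact hx1 (conj_eq_one_iff.1 e)

/-- `t ∈ N_u` normalising a point `w ~ a`, `w ≠ u`, centralises it -/
theorem cent_of_norm {a u w : Subgroup G} (h : Adj Z a u) (hw : Adj Z a w) (hwu : w ≠ u) {t : G}
    (ht : t ∈ NN Z u) (hn : MulAut.conj t • w = w) {y : G} (hy : y ∈ w) : y * t = t * y := by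
  by_contra hne
  have h1 : t * y⁻¹ * t⁻¹ ∈ w := by
    rw [← hn, mem_conj]
    have : t⁻¹ * (t * y⁻¹ * t⁻¹) * t = y⁻¹ := by group
    rw [this]
    exact inv_mem hy
  have h2 : y * t * y⁻¹ * t⁻¹ ∈ w := by
    have : y * t * y⁻¹ * t⁻¹ = y * (t * y⁻¹ * t⁻¹) := by group
    rw [this]
    exact mul_mem hy h1
  have h3 : y * t * y⁻¹ * t⁻¹ ≠ 1 := by
    intro e
    apply hne
    have : y * t = y * t * y⁻¹ * t⁻¹ * (t * y) := by group
    rw [this, e, one_mul]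
  rcases P.fus' h (P.adj_pt hw) h2 (P.com' h (hw.le_NN hy) ht) h3 with e | e
  · exact P.adj_ne hw e.symm
  · exact hwu e

theorem ne_of_moved {u w : Subgroup G} (hu : IsPt Z u) (hw : ¬ w ≤ centralizer (NN Z u : Set G)) : w ≠ u := by
  rintro rfl
  exact hw (P.self_le hu)

/-- `w ~ a` not centralised by `N_u`: `C_w(N_u) = 1` -/
theorem cen_one {a u w : Subgroup G} (h : Adj Z a u) (hw : Adj Z a w) (hwu : ¬ w ≤ centralizer (NN Z u : Set G))
    {x : G} (hx : x ∈ w) (hxc : x ∈ centralizer (NN Z u : Set G)) : x = 1 := by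
  by_contra hx1
  apply hwu
  intro y hy
  refine mem_centralizer_iff.2 fun t ht => ?_
  have h1 : MulAut.conj t • w = w := by
    refine P.norm_of (P.adj_pt hw) hx hx1 ?_
    have := mem_centralizer_iff.1 hxc t ht
    rwa [this, mul_inv_cancel_right]
  exact (P.cent_of_norm h hw (P.ne_of_moved (P.adj_pt h) hwu) ht h1 hy).symm

theorem exists_moved {a u : Subgroup G} (h : Adj Z a u) : ∃ w, Adj Z a w ∧ ¬ w ≤ centralizer (NN Z u : Set G) := by
  by_contra hcon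
  push Not at hcon
  exact P.not_com h (sSup_le fun w hw => hcon w hw)

theorem mem_au {a u : Subgroup G} (h : Adj Z a u) {g : G} (hg : g ∈ a ⊔ u) : ∃ α ∈ a, ∃ υ ∈ u, g = α * υ :=
  mem_sup_of_comm (h.le_NN.trans (P.self' h.pt)) hg

theorem comm_cent {a u : Subgroup G} (h : Adj Z a u) : a ⊔ u ≤ centralizer (NN Z u : Set G) :=
  sup_le (comm_symm (P.NN_le_cent h)) (P.self_le (P.adj_pt h))

/-- elements of `N_u` normalise `N_a` -/
theorem conj_NN {a u : Subgroup G} (h : Adj Z a u) {t : G} (ht : t ∈ NN Z u) : MulAut.conj t • NN Z a = NN Z a := by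
  rw [← NN_conj]
  congr 1
  exact conj_eq_of_mem (centralizer_le_normalizer _ (P.NN_le_cent h ht))

theorem conj_pt {a u : Subgroup G} (h : Adj Z a u) {t : G} (ht : t ∈ NN Z u) : MulAut.conj t • a = a :=
  conj_eq_of_mem (centralizer_le_normalizer _ (P.NN_le_cent h ht))

theorem abN {a : Subgroup G} (h : IsPt Z a) {x y : G} (hx : x ∈ NN Z a) (hy : y ∈ NN Z a) : x * y = y * x :=
  (mem_centralizer_iff.1 (P.NN_comm h hx) y hy).symm

/-- `a` commutes with `N_a` -/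
theorem aN {a : Subgroup G} (h : IsPt Z a) {x y : G} (hx : x ∈ a) (hy : y ∈ NN Z a) : x * y = y * x :=
  mem_centralizer_iff.1 (P.self' h hy) x hx

theorem sqN {a : Subgroup G} (h : IsPt Z a) {x y : G} (hx : x ∈ a) (hy : y ∈ a) : x * y = y * x := by
  obtain ⟨i, k, rfl⟩ := h
  rw [mem_conj] at hx hy
  have h0 : ∀ x ∈ Z i, x * x = 1 := fun x hx => by rw [← pow_two, P.sq i x hx]
  have key : ∀ x ∈ Z i, ∀ y ∈ Z i, x * y = y * x := by
    intro x hx y hy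
    have h1 := h0 _ (mul_mem hx hy)
    have h2 : x⁻¹ = x := inv_eq_of_mul_eq_one_left (h0 x hx)
    have h3 : y⁻¹ = y := inv_eq_of_mul_eq_one_left (h0 y hy)
    calc x * y = (x * y)⁻¹ := (inv_eq_of_mul_eq_one_left h1).symm
      _ = y⁻¹ * x⁻¹ := mul_inv_rev _ _
      _ = y * x := by rw [h2, h3]
  have := key _ hx _ hy
  have e1 : x * y = k * (k⁻¹ * x * k * (k⁻¹ * y * k)) * k⁻¹ := by group
  have e2 : y * x = k * (k⁻¹ * y * k * (k⁻¹ * x * k)) * k⁻¹ := by group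
  rw [e1, this, e2]

end TQ0

namespace TQ

variable [Finite G] {Z U : Fin 2 → Subgroup G} (P : TQ Z U)
include P

theorem idx' {a u : Subgroup G} (h : Adj Z a u) :
    (centralizer (NN Z u : Set G)).relIndex (NN Z a) = Nat.card (Z 0) := by
  obtain ⟨i, k, rfl, rfl⟩ := h
  rw [NN_conj, NN_conj, ← conj_centralizer, relIndex_conj]
  exact P.idx i

/-- `N_a = w C_{N_a}(N_u)` -/
theorem dec {a u w : Subgroup G} (h : Adj Z a u) (hw : Adj Z a w) (hwu : ¬ w ≤ centralizer (NN Z u : Set G))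
    {n : G} (hn : n ∈ NN Z a) : ∃ x ∈ w, x⁻¹ * n ∈ centralizer (NN Z u : Set G) := by
  let C : Subgroup G := centralizer (NN Z u : Set G)
  let f : w → NN Z a ⧸ C.subgroupOf (NN Z a) := fun y => (⟨y, hw.le_NN y.2⟩ : NN Z a)
  have hf : Function.Injective f := by
    intro y z hyz
    have h1 : (⟨y, hw.le_NN y.2⟩ : NN Z a)⁻¹ * ⟨z, hw.le_NN z.2⟩ ∈ C.subgroupOf (NN Z a) := QuotientGroup.eq.1 hyz
    have h2 : (y : G)⁻¹ * z ∈ C := h1
    have h3 := P.cen_one h hw hwu (mul_mem (inv_mem y.2) z.2) h2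
    exact Subtype.ext (inv_mul_eq_one.1 h3)
  have hc : Nat.card (NN Z a ⧸ C.subgroupOf (NN Z a)) ≤ Nat.card w := by
    rw [P.card_pt (P.adj_pt hw), ← P.idx' h]
    exact le_rfl
  obtain ⟨y, hy⟩ := (hf.bijective_of_nat_card_le hc).2 (⟨n, hn⟩ : NN Z a)
  have h1 : (⟨y, hw.le_NN y.2⟩ : NN Z a)⁻¹ * ⟨n, hn⟩ ∈ C.subgroupOf (NN Z a) := QuotientGroup.eq.1 hy
  exact ⟨y, y.2, h1⟩

/-- **nonsingularity** -/
theorem nonsing {a u : Subgroup G} (h : Adj Z a u) {n t : G} (hn : n ∈ NN Z a)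
    (hnc : n ∉ centralizer (NN Z u : Set G)) (ht : t ∈ NN Z u) (htc : t ∉ centralizer (NN Z a : Set G)) :
    n * t * n⁻¹ * t⁻¹ ∉ a := by
  intro hα
  have hsym := P.adj_symm h
  obtain ⟨w, hw, hwu⟩ := P.exists_moved h
  obtain ⟨x, hx, hc⟩ := P.dec h hw hwu hn
  have hx1 : x ≠ 1 := by
    rintro rfl
    rw [inv_one, one_mul] at hc
    exact hnc hc
  set c : G := x⁻¹ * n with hcdef
  have hnx : n = x * c := by rw [hcdef]; group
  have hct : t * c = c * t := mem_centralizer_iff.1 hc t ht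
  have e1 : n * t * n⁻¹ * t⁻¹ = x * t * x⁻¹ * t⁻¹ := by
    rw [hnx]
    calc x * c * t * (x * c)⁻¹ * t⁻¹ = x * (c * t) * c⁻¹ * x⁻¹ * t⁻¹ := by group
      _ = x * (t * c) * c⁻¹ * x⁻¹ * t⁻¹ := by rw [hct]
      _ = x * t * x⁻¹ * t⁻¹ := by group
  rw [e1] at hα
  -- `t` normalises `w`
  have h2 : MulAut.conj t • w = w := by
    have h3 : t * x * t⁻¹ ∈ MulAut.conj t • w := by
      rw [mem_conj]
      have : t⁻¹ * (t * x * t⁻¹) * t = x := by group
      rwa [this]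
    have h4 : t * x * t⁻¹ ∈ a ⊔ w := by
      have : t * x * t⁻¹ = (x * t * x⁻¹ * t⁻¹)⁻¹ * x := by group
      rw [this]
      exact mul_mem (inv_mem (mem_sup_left hα)) (mem_sup_right hx)
    rcases P.fus' hw ((P.adj_pt hw).conj t) h3 h4 (fun e => hx1 (conj_eq_one_iff.1 e)) with e | e
    · exfalso
      have h5 : MulAut.conj t • a = a := by
        refine conj_eq_of_mem (centralizer_le_normalizer _ (P.NN_le_cent h ht))
      have h6 : w = a := by
        have := congrArg (fun A => MulAut.conj t⁻¹ • A) (e.trans h5.symm)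
        simpa only [inv_conj_conj] using this
      exact P.adj_ne hw h6.symm
    · exact e
  have hwt : ∀ y ∈ w, y * t = t * y := fun y hy => P.cent_of_norm h hw (P.ne_of_moved (P.adj_pt h) hwu) ht h2 hy
  -- the other side
  obtain ⟨y, hy, hya⟩ := P.exists_moved hsym
  obtain ⟨y', hy', hc'⟩ := P.dec hsym hy hya ht
  have hy1 : y' ≠ 1 := by
    rintro rfl
    rw [inv_one, one_mul] at hc'
    exact htc hc'
  have hxa : x ∈ NN Z a := hw.le_NN hx
  have h3 : x * y' = y' * x := by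
    have e2 : x * (y'⁻¹ * t) = y'⁻¹ * t * x := mem_centralizer_iff.1 hc' x hxa
    have e3 : y' = t * (y'⁻¹ * t)⁻¹ := by group
    rw [e3]
    calc x * (t * (y'⁻¹ * t)⁻¹) = (x * t) * (y'⁻¹ * t)⁻¹ := by group
      _ = (t * x) * (y'⁻¹ * t)⁻¹ := by rw [hwt x hx]
      _ = t * ((y'⁻¹ * t)⁻¹ * (y'⁻¹ * t * x) * (y'⁻¹ * t)⁻¹) := by group
      _ = t * ((y'⁻¹ * t)⁻¹ * (x * (y'⁻¹ * t)) * (y'⁻¹ * t)⁻¹) := by rw [e2]
      _ = t * (y'⁻¹ * t)⁻¹ * x := by group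
  have h4 : MulAut.conj x • y = y := by
    refine P.norm_of (P.adj_pt hy) hy' hy1 ?_
    rwa [h3, mul_inv_cancel_right]
  have h5 : ∀ z ∈ y, z * x = x * z := fun z hz =>
    P.cent_of_norm hsym hy (P.ne_of_moved h.pt hya) hxa h4 hz
  refine hx1 (P.cen_one h hw hwu hx (mem_centralizer_iff.2 fun t' ht' => ?_))
  obtain ⟨z, hz, hc''⟩ := P.dec hsym hy hya ht'
  have e4 : x * (z⁻¹ * t') = z⁻¹ * t' * x := mem_centralizer_iff.1 hc'' x hxa
  have e5 : t' = z * (z⁻¹ * t') := by group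
  rw [e5]
  calc z * (z⁻¹ * t') * x = z * (z⁻¹ * t' * x) := by group
    _ = z * (x * (z⁻¹ * t')) := by rw [e4]
    _ = z * x * (z⁻¹ * t') := by group
    _ = x * z * (z⁻¹ * t') := by rw [h5 z hz]
    _ = x * (z * (z⁻¹ * t')) := by group

/-- `[n, N_u] ≤ a` implies `[n, N_u] = 1`. -/
theorem lift {a u : Subgroup G} (h : Adj Z a u) {n : G} (hn : n ∈ NN Z a)
    (hc : ∀ t ∈ NN Z u, n * t * n⁻¹ * t⁻¹ ∈ a) : n ∈ centralizer (NN Z u : Set G) := by
  by_contra hnc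
  obtain ⟨t, ht, htc⟩ := SetLike.not_le_iff_exists.1 (P.not_com (P.adj_symm h))
  exact P.nonsing h hn hnc ht htc (hc t ht)

/-- `t ∈ N_u` centralising an element of `N_a - C(N_u)` modulo `a` centralises `N_a` -/
theorem lift' {a u : Subgroup G} (h : Adj Z a u) {n t : G} (hn : n ∈ NN Z a)
    (hnc : n ∉ centralizer (NN Z u : Set G)) (ht : t ∈ NN Z u) (hc : n * t * n⁻¹ * t⁻¹ ∈ a) :
    t ∈ centralizer (NN Z a : Set G) := by
  by_contra htc
  exact P.nonsing h hn hnc ht htc hc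

/-- **symmetry of perpendicularity** -/
theorem perp_symm {a u w : Subgroup G} (h : Adj Z a u) (hw : Adj Z a w) (hwu : w ≤ centralizer (NN Z u : Set G)) :
    u ≤ centralizer (NN Z w : Set G) := by
  by_contra huw
  -- `N_u` normalises `N_w`; `[N_u, N_w]` centralises `N_a`
  have hNw : ∀ t ∈ NN Z u, MulAut.conj t • NN Z w = NN Z w := by
    intro t ht
    rw [← NN_conj]
    congr 1
    exact conj_eq_of_mem (centralizer_le_normalizer _ (comm_symm hwu ht))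
  -- so `N_u` centralises `N_a` modulo `a`
  apply P.not_com h
  intro n hn
  obtain ⟨x, hx, hc⟩ := P.dec hw h huw hn
  have h1 : x⁻¹ * n ∈ centralizer (NN Z u : Set G) := by
    refine P.lift h (mul_mem (inv_mem (h.le_NN hx)) hn) fun t ht => ?_
    set c : G := x⁻¹ * n with hcd
    have hcN : c ∈ NN Z a := mul_mem (inv_mem (h.le_NN hx)) hn
    have h2 : c * t * c⁻¹ * t⁻¹ ∈ a ⊔ u := P.com' h hcN ht
    obtain ⟨α, hα, υ, hυ, e⟩ := P.mem_au h h2
    have h3 : c * t * c⁻¹ * t⁻¹ ∈ centralizer (NN Z w : Set G) := by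
      have h4 : t * c⁻¹ * t⁻¹ ∈ centralizer (NN Z w : Set G) := by
        have h5 : MulAut.conj t • centralizer (NN Z w : Set G) = centralizer (NN Z w : Set G) := by
          rw [conj_centralizer, hNw t ht]
        rw [← h5, mem_conj]
        have : t⁻¹ * (t * c⁻¹ * t⁻¹) * t = c⁻¹ := by group
        rw [this]
        exact inv_mem hc
      have e2 : c * t * c⁻¹ * t⁻¹ = c * (t * c⁻¹ * t⁻¹) := by group
      rw [e2]
      exact mul_mem hc h4
    have h6 : α ∈ centralizer (NN Z w : Set G) := comm_symm (P.NN_le_cent hw) hα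
    have h7 : υ ∈ centralizer (NN Z w : Set G) := by
      have : υ = α⁻¹ * (c * t * c⁻¹ * t⁻¹) := by rw [e]; group
      rw [this]
      exact mul_mem (inv_mem h6) h3
    have h8 := P.cen_one hw h huw hυ h7
    rw [e, h8, mul_one]
    exact hα
  have h2 : x ∈ centralizer (NN Z u : Set G) := P.self_le (P.adj_pt h) hx
  have := mul_mem h2 h1
  rwa [mul_inv_cancel_left] at this

/-- **surjectivity** -/
theorem sur {a u : Subgroup G} (h : Adj Z a u) {n v : G} (hn : n ∈ NN Z a)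
    (hnc : n ∉ centralizer (NN Z u : Set G)) (hv : v ∈ u) :
    ∃ t ∈ NN Z u, ∃ α ∈ a, t * n * t⁻¹ = n * v * α := by
  classical
  have hsym := P.adj_symm h
  have hex : ∀ t : NN Z u, ∃ υ : u, ∃ α ∈ a, n * t * n⁻¹ * (t : G)⁻¹ = α * υ := by
    intro t
    obtain ⟨α, hα, υ, hυ, e⟩ := P.mem_au h (P.com' h hn t.2)
    exact ⟨⟨υ, hυ⟩, α, hα, e⟩
  choose f hf using hex
  let C : Subgroup G := centralizer (NN Z a : Set G)
  let g : (NN Z u ⧸ C.subgroupOf (NN Z u)) → u := fun x => f x.out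
  have hg : Function.Injective g := by
    intro x y hxy
    have h1 : f x.out = f y.out := hxy
    obtain ⟨α, hα, e1⟩ := hf x.out
    obtain ⟨β, hβ, e2⟩ := hf y.out
    rw [← h1] at e2
    set υ : G := (f x.out : G) with hυ
    have hυu : υ ∈ u := (f x.out).2
    have hυα : ∀ γ ∈ a, γ * υ = υ * γ := fun γ hγ => P.aN h.pt hγ (h.le_NN hυu)
    have hαt : ∀ γ ∈ a, ∀ t ∈ NN Z u, γ * t = t * γ := fun γ hγ t ht =>
      mem_centralizer_iff.1 (P.NN_le_cent h ht) γ hγ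
    have e3 : n * (x.out : G) * n⁻¹ = α * υ * x.out := by rw [← e1]; group
    have e4 : n * (y.out : G) * n⁻¹ = β * υ * y.out := by rw [← e2]; group
    have hmem : ((x.out : G))⁻¹ * y.out ∈ NN Z u := mul_mem (inv_mem x.out.2) y.out.2
    have e5 : n * ((x.out : G)⁻¹ * y.out) * n⁻¹ * ((x.out : G)⁻¹ * y.out)⁻¹ ∈ a := by
      have e6 : n * ((x.out : G)⁻¹ * y.out) * n⁻¹ = α⁻¹ * β * ((x.out : G)⁻¹ * y.out) := by
        calc n * ((x.out : G)⁻¹ * y.out) * n⁻¹ = (n * (x.out : G) * n⁻¹)⁻¹ * (n * (y.out : G) * n⁻¹) := by group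
          _ = (α * υ * x.out)⁻¹ * (β * υ * y.out) := by rw [e3, e4]
          _ = (x.out : G)⁻¹ * υ⁻¹ * (α⁻¹ * β * υ) * y.out := by group
          _ = (x.out : G)⁻¹ * υ⁻¹ * (υ * (α⁻¹ * β)) * y.out := by
              rw [hυα _ (mul_mem (inv_mem hα) hβ)]
          _ = (x.out : G)⁻¹ * (α⁻¹ * β) * y.out := by group
          _ = α⁻¹ * β * (x.out : G)⁻¹ * y.out := by
              rw [hαt _ (mul_mem (inv_mem hα) hβ) _ (inv_mem x.out.2)]
          _ = α⁻¹ * β * ((x.out : G)⁻¹ * y.out) := by group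
      rw [e6, mul_inv_cancel_right]
      exact mul_mem (inv_mem hα) hβ
    have h2 : ((x.out : G))⁻¹ * y.out ∈ C := P.lift' h hn hnc hmem e5
    have h3 : (x.out)⁻¹ * y.out ∈ C.subgroupOf (NN Z u) := h2
    have h4 : ((x.out : NN Z u) : NN Z u ⧸ C.subgroupOf (NN Z u)) = (y.out : NN Z u) := QuotientGroup.eq.2 h3
    rwa [QuotientGroup.out_eq', QuotientGroup.out_eq'] at h4
  have hc : Nat.card u ≤ Nat.card (NN Z u ⧸ C.subgroupOf (NN Z u)) := by
    rw [P.card_pt (P.adj_pt h), ← P.idx' hsym]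
    exact le_rfl
  obtain ⟨x, hx⟩ := (hg.bijective_of_nat_card_le hc).2 (⟨v⁻¹, inv_mem hv⟩ : u)
  obtain ⟨α, hα, e⟩ := hf x.out
  have hx' : (f x.out : G) = v⁻¹ := congrArg Subtype.val hx
  rw [hx'] at e
  refine ⟨x.out, x.out.2, α⁻¹, inv_mem hα, ?_⟩
  have e1 : (x.out : G) * n * (x.out : G)⁻¹ = (n⁻¹ * (n * x.out * n⁻¹ * (x.out : G)⁻¹))⁻¹ := by group
  have e2 : v * n = n * v := P.abN h.pt (h.le_NN hv) hn
  have e3 : α⁻¹ * n = n * α⁻¹ := P.aN h.pt (inv_mem hα) hn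
  have e4 : α⁻¹ * v = v * α⁻¹ := P.aN h.pt (inv_mem hα) (h.le_NN hv)
  rw [e1, e]
  calc (n⁻¹ * (α * v⁻¹))⁻¹ = v * (α⁻¹ * n) := by group
    _ = v * n * α⁻¹ := by rw [e3]; group
    _ = n * v * α⁻¹ := by rw [e2]

end TQ

end Cfsg.Agent.Omega.OM.TV

end

section


/-!
# Two types of points: the geometry of `N_a / a` in the transvection case

`M = N_a / a`, the points are the images of the `w ~ a`, `T` = the automorphisms induced by `N_w`.

* `TQ.geo` : `PtGeo.Geo`; `TQ.mem_pr` : `π n ∈ pr T (im w)` iff `[n, N_w] = 1`.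
-/

set_option autoImplicit false
set_option linter.unusedSectionVars false

namespace Cfsg.Agent.Omega.OM.TV

open Subgroup Cfsg Cfsg.Agent.ZN Cfsg.Agent.Omega.MinPar
open Cfsg.Agent.Omega.NoFF.Basic (conj_conj mem_conj conj_le_iff conj_le_centralizer comm_symm comm_mono)
open Cfsg.Agent.Omega.NOThreeL.Pair (conj_eq_of_mem)
open Cfsg.Agent.Omega.OM.PG (HH QQ HH_conj QQ_conj conj_inv_conj inv_conj_conj)
open Cfsg.Agent.Omega.NO3S.EThree (conj_sup' conj_centralizer relIndex_conj mem_sup_of_comm norm_conj conj_norm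
  conj_normalizer mem_conj_self Qt exists_qt)
open Cfsg.Agent.Omega.NO3S.EThree.PtGeo
open scoped Pointwise

universe u

variable {G : Type u} [Group G]

/-- The points of `M = N_a / a`. -/
def PPa {Z : Fin 2 → Subgroup G} {a : Subgroup G} {M : Type u} [AddCommGroup M] {π : G → M}
    (q : Qt (NN Z a) a M π) : Set (AddSubgroup M) := {p | ∃ w, Adj Z a w ∧ p = q.im w}

/-- The automorphisms induced by `N_w`. -/
def Ta {Z : Fin 2 → Subgroup G} {a : Subgroup G} {M : Type u} [AddCommGroup M] {π : G → M}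
    (q : Qt (NN Z a) a M π) : AddSubgroup M → Set (M ≃+ M) :=
  fun p => {φ | ∃ w, Adj Z a w ∧ p = q.im w ∧ ∃ t ∈ NN Z w, ∀ x ∈ NN Z a, φ (π x) = π (t * x * t⁻¹)}

namespace TQ0

variable [Finite G] {Z U : Fin 2 → Subgroup G} (P : TQ0 Z U)
include P

theorem qt {a : Subgroup G} (ha : IsPt Z a) : ∃ (M : Type u) (_ : AddCommGroup M) (π : G → M), Qt (NN Z a) a M π :=
  exists_qt _ _ fun _ hx _ hy => P.abN ha hx hy

variable {a : Subgroup G} {M : Type u} [AddCommGroup M] {π : G → M} (q : Qt (NN Z a) a M π)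
include q

theorem pt_disj {w : Subgroup G} (hw : Adj Z a w) {x : G} (hx : x ∈ w) (hxa : x ∈ a) : x = 1 := by
  by_contra h1
  exact P.adj_ne hw (P.ti _ _ hw.pt (P.adj_pt hw) x hxa hx h1)

theorem π_ne {w : Subgroup G} (hw : Adj Z a w) {x : G} (hx : x ∈ w) (hx1 : x ≠ 1) : π x ≠ 0 := by
  rw [Ne, q.ker x (hw.le_NN hx)]
  exact fun h => hx1 (P.pt_disj q hw hx h)

theorem im_inj {w w' : Subgroup G} (hw : Adj Z a w) (hw' : Adj Z a w') {x : G} (hx : x ∈ w) (hx1 : x ≠ 1)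
    (h : π x ∈ q.im w') : w = w' := by
  obtain ⟨y, hy, hyN, e⟩ := q.mem_im.1 h
  have h1 : y⁻¹ * x ∈ a := (q.eq_iff hyN (hw.le_NN hx)).1 e
  have h2 : x ∈ a ⊔ w' := by
    have : x = y * (y⁻¹ * x) := by group
    rw [this]
    exact mul_mem (mem_sup_right hy) (mem_sup_left h1)
  rcases P.fus' hw' (P.adj_pt hw) hx h2 hx1 with e' | e'
  · exact absurd e'.symm (P.adj_ne hw)
  · exact e'

theorem im_eq {w w' : Subgroup G} (hw : Adj Z a w) (hw' : Adj Z a w') (h : q.im w = q.im w') : w = w' := by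
  obtain ⟨x, hx, hx1⟩ := P.exists_ne (P.adj_pt hw)
  exact P.im_inj q hw hw' hx hx1 (h ▸ q.π_mem_im hx (hw.le_NN hx))

theorem act_ex {t : G} (ht : MulAut.conj t • a = a) :
    ∃ φ : M ≃+ M, ∀ x ∈ NN Z a, φ (π x) = π (t * x * t⁻¹) :=
  q.exists_act (by rw [← NN_conj, ht]) ht

theorem mem_Ta {w : Subgroup G} (hw : Adj Z a w) {φ : M ≃+ M} :
    φ ∈ Ta q (q.im w) ↔ ∃ t ∈ NN Z w, ∀ x ∈ NN Z a, φ (π x) = π (t * x * t⁻¹) := by
  constructor
  · rintro ⟨w', hw', e, t, ht, h⟩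
    have := P.im_eq q hw hw' e
    subst this
    exact ⟨t, ht, h⟩
  · rintro ⟨t, ht, h⟩
    exact ⟨w, hw, rfl, t, ht, h⟩

theorem adj_conj_of {w : Subgroup G} (hw : Adj Z a w) {t : G} (ht : MulAut.conj t • a = a) :
    Adj Z a (MulAut.conj t • w) := by
  have := hw.conj t
  rwa [ht] at this

theorem mp_im {w : Subgroup G} (hw : Adj Z a w) {t : G} (ht : MulAut.conj t • a = a) {φ : M ≃+ M}
    (hφ : ∀ x ∈ NN Z a, φ (π x) = π (t * x * t⁻¹)) : mp φ (q.im w) = q.im (MulAut.conj t • w) := by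
  ext m
  rw [mem_mp]
  constructor
  · rintro ⟨_, ⟨x, hx, hxN, rfl⟩, rfl⟩
    refine ⟨t * x * t⁻¹, ?_, ?_, (hφ x hxN).symm⟩
    · rw [mem_conj]
      have : t⁻¹ * (t * x * t⁻¹) * t = x := by group
      rwa [this]
    · have h1 : MulAut.conj t • NN Z a = NN Z a := by rw [← NN_conj, ht]
      rw [← h1, mem_conj]
      have : t⁻¹ * (t * x * t⁻¹) * t = x := by group
      rwa [this]
  · rintro ⟨y, hy, hyN, rfl⟩
    rw [mem_conj] at hy
    refine ⟨π (t⁻¹ * y * t), q.π_mem_im hy (hw.le_NN hy), ?_⟩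
    rw [hφ _ (hw.le_NN hy)]
    congr 1
    group

end TQ0

namespace TQ

variable [Finite G] {Z U : Fin 2 → Subgroup G} (P : TQ Z U)
include P

variable {a : Subgroup G} {M : Type u} [AddCommGroup M] {π : G → M} (q : Qt (NN Z a) a M π)
include q

/-- `π n` is fixed by `N_w` iff `[n, N_w] = 1`. -/
theorem mem_pr {w : Subgroup G} (hw : Adj Z a w) {n : G} (hn : n ∈ NN Z a) :
    π n ∈ pr (Ta q) (q.im w) ↔ n ∈ centralizer (NN Z w : Set G) := by
  constructor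
  · intro h
    refine P.lift hw hn fun t ht => ?_
    obtain ⟨φ, hφ⟩ := P.act_ex q (P.conj_pt hw ht)
    have h1 : φ (π n) = π n := h φ ((P.mem_Ta q hw).2 ⟨t, ht, hφ⟩)
    rw [hφ n hn] at h1
    have htn : t * n * t⁻¹ ∈ NN Z a := by
      rw [← P.conj_NN hw ht, mem_conj]
      have : t⁻¹ * (t * n * t⁻¹) * t = n := by group
      rwa [this]
    rw [q.eq_iff htn hn] at h1
    have h2 : (t * n * t⁻¹)⁻¹ * n = n⁻¹ * (n * t * n⁻¹ * t⁻¹) * n := by group
    rw [h2] at h1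
    have h3 : n * (n⁻¹ * (n * t * n⁻¹ * t⁻¹) * n) * n⁻¹ ∈ a := by
      have : n * (n⁻¹ * (n * t * n⁻¹ * t⁻¹) * n) * n⁻¹ = n⁻¹ * (n * t * n⁻¹ * t⁻¹) * n := by
        rw [← P.aN hw.pt h1 hn, mul_inv_cancel_right]
      rw [this]
      exact h1
    have h4 : n * (n⁻¹ * (n * t * n⁻¹ * t⁻¹) * n) * n⁻¹ = n * t * n⁻¹ * t⁻¹ := by group
    rwa [h4] at h3
  · intro h φ hφ
    obtain ⟨t, ht, h1⟩ := (P.mem_Ta q hw).1 hφ
    rw [h1 n hn]
    have : t * n * t⁻¹ = n := by rw [mem_centralizer_iff.1 h t ht, mul_inv_cancel_right]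
    rw [this]

theorem le_pr {w w' : Subgroup G} (hw : Adj Z a w) (hw' : Adj Z a w') :
    q.im w' ≤ pr (Ta q) (q.im w) ↔ w' ≤ centralizer (NN Z w : Set G) := by
  constructor
  · intro h x hx
    exact (P.mem_pr q hw (hw'.le_NN hx)).1 (h (q.π_mem_im hx (hw'.le_NN hx)))
  · rintro h _ ⟨x, hx, hxN, rfl⟩
    exact (P.mem_pr q hw hxN).2 (h hx)

/-- The geometry. -/
theorem geo : Geo (PPa q) (Ta q) where
  ne := by
    rintro _ ⟨w, hw, rfl⟩
    obtain ⟨x, hx, hx1⟩ := P.exists_ne (P.adj_pt hw)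
    exact ⟨π x, q.π_mem_im hx (hw.le_NN hx), P.π_ne q hw hx hx1⟩
  ti := by
    rintro _ ⟨w, hw, rfl⟩ _ ⟨w', hw', rfl⟩ m ⟨x, hx, hxN, rfl⟩ h h0
    have hx1 : x ≠ 1 := by
      rintro rfl
      exact h0 q.one
    rw [P.im_inj q hw hw' hx hx1 h]
  mem := by
    rintro _ ⟨w, hw, rfl⟩ φ hφ m
    obtain ⟨t, ht, h1⟩ := (P.mem_Ta q hw).1 hφ
    obtain ⟨n, hn, rfl⟩ := q.surj m
    rw [h1 n hn]
    obtain ⟨α, hα, υ, hυ, e⟩ := P.mem_au hw (P.com' hw hn ht)
    have hυN := hw.le_NN hυ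
    have htn : t * n * t⁻¹ ∈ NN Z a := by
      rw [← P.conj_NN hw ht, mem_conj]
      have : t⁻¹ * (t * n * t⁻¹) * t = n := by group
      rwa [this]
    -- `t n t⁻¹ = n υ⁻¹ α⁻¹`
    have e1 : (t * n * t⁻¹)⁻¹ * (n * υ⁻¹) ∈ a := by
      have e2 : (t * n * t⁻¹)⁻¹ = n⁻¹ * (n * t * n⁻¹ * t⁻¹) := by group
      have e3 : υ * n = n * υ := P.abN hw.pt hυN hn
      have e4 : n⁻¹ * α = α * n⁻¹ := (P.aN hw.pt hα (inv_mem hn)).symm
      have e5 : (t * n * t⁻¹)⁻¹ * (n * υ⁻¹) = α := by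
        rw [e2, e]
        calc n⁻¹ * (α * υ) * (n * υ⁻¹) = (n⁻¹ * α) * (υ * n) * υ⁻¹ := by group
          _ = (α * n⁻¹) * (n * υ) * υ⁻¹ := by rw [e3, e4]
          _ = α := by group
      rw [e5]
      exact hα
    have e6 : π (t * n * t⁻¹) = π (n * υ⁻¹) := (q.eq_iff htn (mul_mem hn (inv_mem hυN))).2 e1
    rw [e6, q.mul n hn _ (inv_mem hυN), add_sub_cancel_left]
    exact q.π_mem_im (inv_mem hυ) (inv_mem hυN)
  self := by
    rintro _ ⟨w, hw, rfl⟩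
    exact (P.le_pr q hw hw).2 (P.self_le (P.adj_pt hw))
  act := by
    rintro _ ⟨w, hw, rfl⟩ φ hφ _ ⟨r, hr, rfl⟩
    obtain ⟨t, ht, h1⟩ := (P.mem_Ta q hw).1 hφ
    exact ⟨_, P.adj_conj_of q hr (P.conj_pt hw ht), P.mp_im q hr (P.conj_pt hw ht) h1⟩
  cj := by
    rintro _ ⟨w, hw, rfl⟩ φ hφ _ ⟨r, hr, rfl⟩ m
    obtain ⟨t, ht, h1⟩ := (P.mem_Ta q hw).1 hφ
    obtain ⟨n, hn, rfl⟩ := q.surj m
    have htn : t * n * t⁻¹ ∈ NN Z a := by
      rw [← P.conj_NN hw ht, mem_conj]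
      have : t⁻¹ * (t * n * t⁻¹) * t = n := by group
      rwa [this]
    rw [P.mp_im q hr (P.conj_pt hw ht) h1, h1 n hn, P.mem_pr q (P.adj_conj_of q hr (P.conj_pt hw ht)) htn,
      P.mem_pr q hr hn, NN_conj, ← conj_centralizer, mem_conj]
    have : t⁻¹ * (t * n * t⁻¹) * t = n := by group
    rw [this]
  sur := by
    rintro _ ⟨w, hw, rfl⟩ m hm v ⟨υ, hυ, hυN, rfl⟩
    obtain ⟨n, hn, rfl⟩ := q.surj m
    rw [P.mem_pr q hw hn] at hm
    obtain ⟨t, ht, α, hα, e⟩ := P.sur hw hn hm hυ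
    obtain ⟨φ, hφ⟩ := P.act_ex q (P.conj_pt hw ht)
    refine ⟨φ, (P.mem_Ta q hw).2 ⟨t, ht, hφ⟩, ?_⟩
    rw [hφ n hn, ← q.mul n hn υ hυN, q.eq_iff ?_ (mul_mem hn hυN), e]
    · have : (n * υ * α)⁻¹ * (n * υ) = α⁻¹ := by group
      rw [this]
      exact inv_mem hα
    · rw [← P.conj_NN hw ht, mem_conj]
      have : t⁻¹ * (t * n * t⁻¹) * t = n := by group
      rwa [this]
  sym := by
    rintro _ ⟨w, hw, rfl⟩ _ ⟨r, hr, rfl⟩ h
    rw [P.le_pr q hw hr] at h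
    rw [P.le_pr q hr hw]
    exact P.perp_symm hw hr h
  ix := by
    rintro _ ⟨w, hw, rfl⟩ _ ⟨r, hr, rfl⟩ h m
    rw [P.le_pr q hw hr] at h
    obtain ⟨n, hn, rfl⟩ := q.surj m
    obtain ⟨x, hx, hc⟩ := P.dec hw hr h hn
    have hxN := hr.le_NN hx
    refine ⟨π x, q.π_mem_im hx hxN, ?_⟩
    have h1 : π n - π x = π (x⁻¹ * n) := by
      rw [q.mul _ (inv_mem hxN) _ hn, q.inv hxN]; abel
    rw [h1]
    exact (P.mem_pr q hw (mul_mem (inv_mem hxN) hn)).2 hc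

end TQ

end Cfsg.Agent.Omega.OM.TV

end

section


/-!
# Two types of points, the transvection case: lines, one component

`TQL Z U B` : `TQ` with `O₂(H/F) = 1`, lines `U`, `N_0 ∩ N_1 ≤ Z_0Z_1`, and a 2-group `B` with `C_{N_i}(B) ≤ Z_0Z_1`.

* `TQL.geoO` : `PtGeo.GeoO` for every `a`.
-/

set_option autoImplicit false
set_option linter.unusedSectionVars false

namespace Cfsg.Agent.Omega.OM.TV

open Subgroup Cfsg Cfsg.Agent.ZN Cfsg.Agent.Omega.MinPar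
open Cfsg.Agent.Omega.NoFF.Basic (conj_conj mem_conj conj_le_iff conj_le_centralizer comm_symm comm_mono)
open Cfsg.Agent.Omega.NOThreeL.Pair (conj_eq_of_mem)
open Cfsg.Agent.Omega.OM.PG (HH QQ HH_conj QQ_conj conj_inv_conj inv_conj_conj)
open Cfsg.Agent.Omega.NO3S.EThree (conj_sup' conj_centralizer relIndex_conj mem_sup_of_comm norm_conj conj_norm
  conj_normalizer mem_conj_self Qt exists_qt)
open Cfsg.Agent.Omega.NO3S.EThree.PtGeo
open scoped Pointwise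

universe u

variable {G : Type u} [Group G]

namespace TQ0

variable [Finite G] {Z U : Fin 2 → Subgroup G} (P : TQ0 Z U)
include P

/-- the points of the line `k U_{i+1}` are adjacent to `k Z_i`; more precisely -/
theorem tr1 {i : Fin 2} {k : G} {y : Subgroup G} (hy : IsPt Z y) (hle : y ≤ MulAut.conj k • U (i + 1)) :
    ∃ g : G, MulAut.conj g • (MulAut.conj k • Z (i + 1)) = y ∧
      MulAut.conj g • (MulAut.conj k • Z i) = MulAut.conj k • Z i ∧
      MulAut.conj g • (MulAut.conj k • U (i + 1)) = MulAut.conj k • U (i + 1) ∧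
      MulAut.conj g • (MulAut.conj k • U i) = MulAut.conj k • U i := by
  have h1 : MulAut.conj k⁻¹ • y ≤ U (i + 1) := by
    have := conj_le_iff (g := k⁻¹) |>.2 hle
    rwa [inv_conj_conj] at this
  obtain ⟨l, l0, l1, l2, l3⟩ := P.tr (i + 1) _ (hy.conj k⁻¹) h1
  rw [f2] at l1 l3
  refine ⟨k * l * k⁻¹, ?_, ?_, ?_, ?_⟩
  · rw [← conj_conj, inv_conj_conj, ← conj_conj, l0, conj_inv_conj]
  · rw [← conj_conj, inv_conj_conj, ← conj_conj, l1]
  · rw [← conj_conj, inv_conj_conj, ← conj_conj, l2]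
  · rw [← conj_conj, inv_conj_conj, ← conj_conj, l3]

theorem adj_of_le {i : Fin 2} {k : G} {y : Subgroup G} (hy : IsPt Z y) (hle : y ≤ MulAut.conj k • U (i + 1)) :
    Adj Z (MulAut.conj k • Z i) y := by
  obtain ⟨g, h1, h2, -, -⟩ := P.tr1 hy hle
  exact ⟨i, g * k, by rw [← conj_conj, h2], by rw [← conj_conj, h1]⟩

/-- lines -/
theorem pts0 {i : Fin 2} {k x : G} (hx : x ∈ MulAut.conj k • U i) (hx1 : x ≠ 1) :
    ∃ w, IsPt Z w ∧ w ≤ MulAut.conj k • U i ∧ x ∈ w := by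
  have h1 : k⁻¹ * x * k ∈ U i := by rwa [mem_conj] at hx
  have h2 : k⁻¹ * x * k ≠ 1 := by
    intro e
    apply hx1
    have : x = k * (k⁻¹ * x * k) * k⁻¹ := by group
    rw [this, e]; group
  obtain ⟨w, hw, hle, hxw⟩ := P.pts i _ h1 h2
  refine ⟨MulAut.conj k • w, hw.conj _, conj_le_iff.2 hle, ?_⟩
  rw [mem_conj]; exact hxw

theorem pts1 {i : Fin 2} {k x : G} (hx : x ∈ MulAut.conj k • U (i + 1)) (hx1 : x ≠ 1) :
    ∃ w, IsPt Z w ∧ w ≤ MulAut.conj k • U (i + 1) ∧ x ∈ w := P.pts0 hx hx1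

theorem pt_le_line (i : Fin 2) (k : G) : MulAut.conj k • Z (i + 1) ≤ MulAut.conj k • U (i + 1) :=
  conj_le_iff.2 (P.ZU _)

theorem line_le_NN (i : Fin 2) (k : G) : MulAut.conj k • U (i + 1) ≤ NN Z (MulAut.conj k • Z i) := by
  intro x hx
  by_cases hx1 : x = 1
  · rw [hx1]; exact one_mem _
  obtain ⟨w, hw, hle, hxw⟩ := P.pts1 hx hx1
  exact (P.adj_of_le hw hle).le_NN hxw

theorem line_le_cent0 (i : Fin 2) (k : G) : MulAut.conj k • U i ≤ centralizer (NN Z (MulAut.conj k • Z i) : Set G) := by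
  have h1 : MulAut.conj k • U i ≤ QQ (MulAut.conj k • Z i) := by
    rw [QQ_conj]
    exact conj_le_iff.2 (P.UQ' i)
  exact h1.trans (P.QQ_le_cent ⟨_, _, rfl⟩)

theorem line_le_cent (i : Fin 2) (k : G) :
    MulAut.conj k • U (i + 1) ≤ centralizer (NN Z (MulAut.conj k • Z (i + 1)) : Set G) := P.line_le_cent0 _ k

theorem card_line0 (i : Fin 2) (k : G) : Nat.card (MulAut.conj k • U i : Subgroup G) = Nat.card (Z 0) ^ 2 := by
  rw [← P.cardU i]
  exact (Nat.card_congr (Subgroup.equivSMul (MulAut.conj k) (U i)).toEquiv).symm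

theorem card_line (i : Fin 2) (k : G) : Nat.card (MulAut.conj k • U (i + 1) : Subgroup G) = Nat.card (Z 0) ^ 2 :=
  P.card_line0 _ k

/-- a line is generated by two different points -/
theorem line_eq {i : Fin 2} {k : G} {y y' : Subgroup G} (hy : IsPt Z y) (hy' : IsPt Z y') (h : y ≤ MulAut.conj k • U (i + 1))
    (h' : y' ≤ MulAut.conj k • U (i + 1)) (hne : y ≠ y') : y ⊔ y' = MulAut.conj k • U (i + 1) := by
  refine Subgroup.eq_of_le_of_card_ge (sup_le h h') ?_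
  rw [P.card_line, pow_two]
  have h1 : Nat.card (y × y') ≤ Nat.card (y ⊔ y' : Subgroup G) := by
    refine Nat.card_le_card_of_injective
      (fun p : y × y' => (⟨p.1 * p.2, mul_mem (mem_sup_left p.1.2) (mem_sup_right p.2.2)⟩ : (y ⊔ y' : Subgroup G))) ?_
    rintro ⟨a, b⟩ ⟨c, d⟩ e
    have e1 : (a : G) * b = c * d := congrArg Subtype.val e
    have e2 : (c : G)⁻¹ * a = d * (b : G)⁻¹ := by
      calc (c : G)⁻¹ * a = (c : G)⁻¹ * (a * b) * (b : G)⁻¹ := by group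
        _ = (c : G)⁻¹ * (c * d) * (b : G)⁻¹ := by rw [e1]
        _ = d * (b : G)⁻¹ := by group
    have e3 : (c : G)⁻¹ * a = 1 := by
      by_contra h0
      exact hne (P.ti _ _ hy hy' _ (mul_mem (inv_mem c.2) a.2) (e2 ▸ mul_mem d.2 (inv_mem b.2)) h0)
    have e4 : (c : G) = a := inv_mul_eq_one.1 e3
    have e5 : (d : G) = b := by
      rw [e3] at e2
      exact (mul_inv_eq_one.1 e2.symm)
    exact Prod.ext (Subtype.ext e4.symm) (Subtype.ext e5.symm)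
  rwa [Nat.card_prod, P.card_pt hy, P.card_pt hy'] at h1

/-- another point on the line -/
theorem exists_other (i : Fin 2) (k : G) {y : Subgroup G} (hy : IsPt Z y) :
    ∃ y', IsPt Z y' ∧ y' ≤ MulAut.conj k • U (i + 1) ∧ y' ≠ y := by
  by_contra hcon
  push Not at hcon
  have h1 : MulAut.conj k • U (i + 1) ≤ y := by
    intro x hx
    by_cases hx1 : x = 1
    · rw [hx1]; exact one_mem _
    obtain ⟨w, hw, hle, hxw⟩ := P.pts1 hx hx1
    rwa [← hcon w hw hle]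
  have h2 := Subgroup.card_le_of_le h1
  rw [P.card_line, P.card_pt hy] at h2
  have h3 := P.one_lt
  nlinarith

theorem sq_one {a : Subgroup G} (ha : IsPt Z a) {x : G} (hx : x ∈ NN Z a) : x * x = 1 := by
  let K : Subgroup G :=
    { carrier := {x | x ∈ NN Z a ∧ x * x = 1}
      one_mem' := ⟨one_mem _, one_mul _⟩
      mul_mem' := fun {x y} hx hy => ⟨mul_mem hx.1 hy.1, by
        have h1 := P.abN ha hx.1 hy.1
        calc x * y * (x * y) = x * (y * x) * y := by group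
          _ = x * (x * y) * y := by rw [h1]
          _ = (x * x) * (y * y) := by group
          _ = 1 := by rw [hx.2, hy.2, one_mul]⟩
      inv_mem' := fun {x} hx => ⟨inv_mem hx.1, by
        have : x⁻¹ * x⁻¹ = (x * x)⁻¹ := by group
        rw [this, hx.2, inv_one]⟩ }
  have h1 : NN Z a ≤ K := by
    refine sSup_le fun u hu y hy => ⟨hu.le_NN hy, ?_⟩
    rw [← pow_two]
    exact P.ZsqConj (P.adj_pt hu) y hy
  exact (h1 hx).2

end TQ0

/-- The transvection case, with lines and `B`. -/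
structure TQL (Z U : Fin 2 → Subgroup G) (B : Subgroup G) : Prop extends TQ Z U where
  core : ∀ i, ∀ J : Subgroup G, J ≤ HH (Z i) → HH (Z i) ≤ normalizer (J : Set G) →
    (∀ y ∈ J, y * y ∈ centralizer (NN Z (Z i) : Set G)) → J ≤ centralizer (NN Z (Z i) : Set G)
  B2 : IsPGroup 2 B
  BZ : ∀ i, B ≤ HH (Z i)
  int : NN Z (Z 0) ⊓ NN Z (Z 1) ≤ Z 0 ⊔ Z 1
  Bfix : ∀ i, ∀ n ∈ NN Z (Z i), (∀ b ∈ B, b * n * b⁻¹ = n) → n ∈ Z 0 ⊔ Z 1
  ab : ∀ i, ∀ l l', LnOn Z U (Z i) l → LnOn Z U (Z i) l' → l ≤ centralizer (l' : Set G)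

namespace TQL

variable [Finite G] {Z U : Fin 2 → Subgroup G} {B : Subgroup G} (P : TQL Z U B)
include P

omit P in
theorem supZ (i : Fin 2) : Z 0 ⊔ Z 1 = Z i ⊔ Z (i + 1) := by
  rcases f01 i with h | h
  · subst h; rfl
  · subst h
    have e : (1 : Fin 2) + 1 = 0 := rfl
    rw [e, sup_comm]

theorem core' {a : Subgroup G} (ha : IsPt Z a) (J : Subgroup G) (h1 : J ≤ HH a)
    (h2 : HH a ≤ normalizer (J : Set G)) (h3 : ∀ y ∈ J, y * y ∈ centralizer (NN Z a : Set G)) :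
    J ≤ centralizer (NN Z a : Set G) := by
  obtain ⟨i, k, rfl⟩ := ha
  have k1 : MulAut.conj k⁻¹ • J ≤ HH (Z i) := by
    have := conj_le_iff (g := k⁻¹) |>.2 h1
    rwa [← HH_conj, inv_conj_conj] at this
  have k2 : HH (Z i) ≤ normalizer ((MulAut.conj k⁻¹ • J : Subgroup G) : Set G) := by
    have := conj_le_iff (g := k⁻¹) |>.2 h2
    rwa [← HH_conj, inv_conj_conj, conj_normalizer] at this
  have k3 : ∀ y ∈ MulAut.conj k⁻¹ • J, y * y ∈ centralizer (NN Z (Z i) : Set G) := by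
    intro y hy
    rw [mem_conj, inv_inv] at hy
    have := h3 _ hy
    rw [NN_conj, ← conj_centralizer, mem_conj] at this
    have e : k⁻¹ * (k * y * k⁻¹ * (k * y * k⁻¹)) * k = y * y := by group
    rwa [e] at this
  have k4 := P.core i _ k1 k2 k3
  have k5 := conj_le_iff (g := k) |>.2 k4
  rwa [conj_inv_conj, conj_centralizer, ← NN_conj] at k5

/-- the radical -/
def II (Z : Fin 2 → Subgroup G) (a : Subgroup G) : Subgroup G :=
  NN Z a ⊓ ⨅ r : {r : Subgroup G // Adj Z a r}, centralizer (NN Z r : Set G)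

omit P in
theorem mem_II {a : Subgroup G} {x : G} : x ∈ II Z a ↔ x ∈ NN Z a ∧ ∀ r, Adj Z a r → x ∈ centralizer (NN Z r : Set G) := by
  unfold II
  rw [mem_inf, mem_iInf]
  exact ⟨fun h => ⟨h.1, fun r hr => h.2 ⟨r, hr⟩⟩, fun h => ⟨h.1, fun r => h.2 r r.2⟩⟩

omit P in
theorem conj_II {a : Subgroup G} {g x : G} (hg : MulAut.conj g • a = a) (hx : x ∈ II Z a) : g * x * g⁻¹ ∈ II Z a := by
  rw [mem_II] at hx ⊢
  have h1 : MulAut.conj g • NN Z a = NN Z a := by rw [← NN_conj, hg]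
  refine ⟨by rw [← h1]; exact mem_conj_self hx.1, fun r hr => ?_⟩
  have h2 : Adj Z a (MulAut.conj g⁻¹ • r) := by
    have h3 := hr.conj g⁻¹
    have h4 : MulAut.conj g⁻¹ • a = a := by
      have := congrArg (fun A => MulAut.conj g⁻¹ • A) hg
      simp only [inv_conj_conj] at this
      exact this.symm
    rwa [h4] at h3
  have h3 := mem_conj_self (k := g) (hx.2 _ h2)
  rwa [conj_centralizer, ← NN_conj, conj_inv_conj] at h3

theorem o2' {a : Subgroup G} (ha : IsPt Z a) {w w' : Subgroup G} (hw : Adj Z a w) (hw' : Adj Z a w') {τ τ' : G}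
    (hτ : τ ∈ NN Z w) (hτ' : τ' ∈ NN Z w')
    (h : ∀ n ∈ NN Z a, n⁻¹ * (τ' * τ * n * (τ' * τ)⁻¹) ∈ II Z a) : τ' * τ ∈ centralizer (NN Z a : Set G) := by
  let J : Subgroup G :=
    { carrier := {h | MulAut.conj h • a = a ∧ (∀ i ∈ II Z a, h * i * h⁻¹ = i) ∧
        ∀ n ∈ NN Z a, n⁻¹ * (h * n * h⁻¹) ∈ II Z a}
      one_mem' := ⟨by rw [map_one, one_smul], fun i _ => by group, fun n _ => by
        have : n⁻¹ * (1 * n * 1⁻¹) = 1 := by group
        rw [this]; exact one_mem _⟩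
      mul_mem' := by
        rintro x y ⟨x1, x2, x3⟩ ⟨y1, y2, y3⟩
        refine ⟨by rw [← conj_conj, y1, x1], fun i hi => ?_, fun n hn => ?_⟩
        · have : x * y * i * (x * y)⁻¹ = x * (y * i * y⁻¹) * x⁻¹ := by group
          rw [this, y2 i hi, x2 i hi]
        · have e1 : n⁻¹ * (x * y * n * (x * y)⁻¹) =
              (n⁻¹ * (x * n * x⁻¹)) * (x * (n⁻¹ * (y * n * y⁻¹)) * x⁻¹) := by group
          rw [e1, x2 _ (y3 n hn)]
          exact mul_mem (x3 n hn) (y3 n hn)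
      inv_mem' := by
        rintro x ⟨x1, x2, x3⟩
        have x1' : MulAut.conj x⁻¹ • a = a := by
          have := congrArg (fun A => MulAut.conj x⁻¹ • A) x1
          simp only [inv_conj_conj] at this
          exact this.symm
        have hN : ∀ n ∈ NN Z a, x⁻¹ * n * x ∈ NN Z a := by
          intro n hn
          have h1 : MulAut.conj x⁻¹ • NN Z a = NN Z a := by rw [← NN_conj, x1']
          have h2 := mem_conj_self (k := x⁻¹) hn
          rwa [h1, inv_inv] at h2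
        refine ⟨x1', fun i hi => ?_, fun n hn => ?_⟩
        · have h1 := x2 i hi
          have : x⁻¹ * i * x⁻¹⁻¹ = x⁻¹ * (x * i * x⁻¹) * x := by rw [h1]; group
          rw [this]; group
        · have h1 := x3 _ (hN n hn)
          have h2 := inv_mem h1
          have e1 : n⁻¹ * (x⁻¹ * n * x⁻¹⁻¹) = ((x⁻¹ * n * x)⁻¹ * (x * (x⁻¹ * n * x) * x⁻¹))⁻¹ := by group
          rw [e1]
          exact h2 }
  have hJ1 : J ≤ HH a := fun x hx => conj_norm hx.1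
  have hJ2 : HH a ≤ normalizer (J : Set G) := by
    intro g hg
    have key : ∀ g ∈ HH a, ∀ x ∈ J, g * x * g⁻¹ ∈ J := by
      rintro g hg x ⟨x1, x2, x3⟩
      have hga : MulAut.conj g • a = a := norm_conj hg
      have hga' : MulAut.conj g⁻¹ • a = a := norm_conj (inv_mem hg)
      refine ⟨?_, fun i hi => ?_, fun n hn => ?_⟩
      · rw [← conj_conj, ← conj_conj, hga', x1, hga]
      · have h1 := x2 _ (conj_II hga' hi)
        have e1 : g * x * g⁻¹ * i * (g * x * g⁻¹)⁻¹ = g * (x * (g⁻¹ * i * g⁻¹⁻¹) * x⁻¹) * g⁻¹ := by group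
        rw [e1, h1]; group
      · have hn' : g⁻¹ * n * g ∈ NN Z a := by
          have h1 : MulAut.conj g⁻¹ • NN Z a = NN Z a := by rw [← NN_conj, hga']
          have h2 := mem_conj_self (k := g⁻¹) hn
          rwa [h1, inv_inv] at h2
        have h1 := conj_II hga (x3 _ hn')
        have e1 : g * ((g⁻¹ * n * g)⁻¹ * (x * (g⁻¹ * n * g) * x⁻¹)) * g⁻¹ =
            n⁻¹ * (g * x * g⁻¹ * n * (g * x * g⁻¹)⁻¹) := by group
        rwa [e1] at h1
    refine mem_normalizer_iff.2 fun x => ⟨key g hg x, fun hx => ?_⟩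
    have := key g⁻¹ (inv_mem hg) _ hx
    have e : g⁻¹ * (g * x * g⁻¹) * g⁻¹⁻¹ = x := by group
    rwa [e] at this
  have hJ3 : ∀ y ∈ J, y * y ∈ centralizer (NN Z a : Set G) := by
    rintro y ⟨y1, y2, y3⟩
    refine mem_centralizer_iff.2 fun n hn => ?_
    set i : G := n⁻¹ * (y * n * y⁻¹) with hi
    have hiI : i ∈ II Z a := y3 n hn
    have e1 : y * n * y⁻¹ = n * i := by rw [hi]; group
    have e2 : y * y * n * (y * y)⁻¹ = n := by
      calc y * y * n * (y * y)⁻¹ = y * (y * n * y⁻¹) * y⁻¹ := by group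
        _ = y * (n * i) * y⁻¹ := by rw [e1]
        _ = (y * n * y⁻¹) * (y * i * y⁻¹) := by group
        _ = n * (i * i) := by rw [e1, y2 i hiI]; group
        _ = n := by rw [P.sq_one ha (mem_II.1 hiI).1, mul_one]
    calc n * (y * y) = y * y * n * (y * y)⁻¹ * (y * y) := by rw [e2]
      _ = y * y * n := by group
  refine P.core' ha J hJ1 hJ2 hJ3 ⟨?_, fun i hi => ?_, h⟩
  · rw [← conj_conj, P.conj_pt hw hτ, P.conj_pt hw' hτ']
  · have h1 := mem_centralizer_iff.1 ((mem_II.1 hi).2 w hw) τ hτ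
    have h2 := mem_centralizer_iff.1 ((mem_II.1 hi).2 w' hw') τ' hτ'
    calc τ' * τ * i * (τ' * τ)⁻¹ = τ' * (τ * i * τ⁻¹) * τ'⁻¹ := by group
      _ = τ' * i * τ'⁻¹ := by rw [h1, mul_inv_cancel_right]
      _ = i := by rw [h2, mul_inv_cancel_right]

section quot

variable {a : Subgroup G} {M : Type u} [AddCommGroup M] {π : G → M} (ha : IsPt Z a) (q : Qt (NN Z a) a M π)
include ha q

theorem π_mem_pr {n : G} (hn : n ∈ NN Z a) :
    (∀ r ∈ PPa q, π n ∈ pr (Ta q) r) ↔ n ∈ II Z a := by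
  rw [mem_II]
  constructor
  · intro h
    exact ⟨hn, fun r hr => (P.mem_pr q hr hn).1 (h _ ⟨r, hr, rfl⟩)⟩
  · rintro ⟨-, h⟩ _ ⟨r, hr, rfl⟩
    exact (P.mem_pr q hr hn).2 (h r hr)

theorem col_line {i : Fin 2} {k : G} (hk : a = MulAut.conj k • Z i) {y y' : Subgroup G} (hy : IsPt Z y) (hy' : IsPt Z y')
    (h : y ≤ MulAut.conj k • U (i + 1)) (h' : y' ≤ MulAut.conj k • U (i + 1)) (hne : y ≠ y') :
    Col (PPa q) (Ta q) (q.im y) (q.im y') := by
  subst hk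
  have hay := P.adj_of_le hy h
  have hay' := P.adj_of_le hy' h'
  refine ⟨?_, fun v hv hv0 => ?_⟩
  · rw [P.le_pr q hay hay']
    obtain ⟨g, h1, -, h3, -⟩ := P.tr1 hy h
    have h4 := P.line_le_cent i (g * k)
    rw [← conj_conj, ← conj_conj, h1, h3] at h4
    exact h'.trans h4
  · have hsup : q.im (y ⊔ y') = q.im y ⊔ q.im y' := by
      refine q.im_sup hay.le_NN hay'.le_NN fun g hg => mem_sup_of_comm (fun z hz => ?_) hg
      exact mem_centralizer_iff.2 fun x hx => P.abN ha (hay.le_NN hx) (hay'.le_NN hz)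
    rw [← hsup, P.line_eq hy hy' h h' hne] at hv ⊢
    obtain ⟨g, hg, hgN, rfl⟩ := hv
    have hg1 : g ≠ 1 := by
      rintro rfl
      exact hv0 q.one
    obtain ⟨w, hw, hle, hgw⟩ := P.pts1 hg hg1
    exact ⟨q.im w, ⟨w, P.adj_of_le hw hle, rfl⟩, q.π_mem_im hgw hgN, q.im_mono hle⟩

/-- The geometry with lines. -/
theorem geoL : GeoL (PPa q) (Ta q) where
  toGeo := P.geo q
  o2 := by
    rintro _ ⟨w, hw, rfl⟩ _ ⟨w', hw', rfl⟩ t ht t' ht' h m
    obtain ⟨τ, hτ, h1⟩ := (P.mem_Ta q hw).1 ht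
    obtain ⟨τ', hτ', h2⟩ := (P.mem_Ta q hw').1 ht'
    have e0 : ∀ n ∈ NN Z a, t' (t (π n)) = π (τ' * τ * n * (τ' * τ)⁻¹) := by
      intro n hn
      have hn' : τ * n * τ⁻¹ ∈ NN Z a := by
        have := mem_conj_self (k := τ) hn
        rwa [P.conj_NN hw hτ] at this
      rw [h1 n hn, h2 _ hn']
      congr 1
      group
    have hmem : ∀ n ∈ NN Z a, τ' * τ * n * (τ' * τ)⁻¹ ∈ NN Z a := by
      intro n hn
      have h3 : MulAut.conj (τ' * τ) • NN Z a = NN Z a := by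
        rw [← conj_conj, P.conj_NN hw hτ, P.conj_NN hw' hτ']
      rw [← h3]
      exact mem_conj_self hn
    have h3 : τ' * τ ∈ centralizer (NN Z a : Set G) := by
      refine P.o2' ha hw hw' hτ hτ' fun n hn => ?_
      rw [← P.π_mem_pr ha q (mul_mem (inv_mem hn) (hmem n hn))]
      intro r hr
      have h4 := h (π n) r hr
      rw [e0 n hn] at h4
      rw [q.mul _ (inv_mem hn) _ (hmem n hn), q.inv hn]
      have : -π n + π (τ' * τ * n * (τ' * τ)⁻¹) = π (τ' * τ * n * (τ' * τ)⁻¹) - π n := by abel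
      rwa [this]
    obtain ⟨n, hn, rfl⟩ := q.surj m
    rw [e0 n hn, ← mem_centralizer_iff.1 h3 n hn, mul_inv_cancel_right]
  line := by
    rintro _ ⟨w, ⟨i, k, hk, rfl⟩, rfl⟩
    obtain ⟨y, hy, hle, hne⟩ := P.exists_other i k (y := MulAut.conj k • Z (i + 1)) (P.adj_pt ⟨i, k, rfl, rfl⟩)
    subst hk
    have hay := P.adj_of_le hy hle
    refine ⟨q.im y, ⟨y, hay, rfl⟩, fun e => hne (P.im_eq q ⟨i, k, rfl, rfl⟩ hay e).symm, ?_⟩
    exact P.col_line ha q rfl (P.adj_pt ⟨i, k, rfl, rfl⟩) hy (P.pt_le_line i k) hle hne.symm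
  nbr := by
    rintro _ ⟨w, hw, rfl⟩
    obtain ⟨r, hr, h⟩ := P.exists_moved hw
    exact ⟨q.im r, ⟨r, hr, rfl⟩, by rwa [P.le_pr q hw hr]⟩
  top := by
    intro m
    obtain ⟨n, hn, rfl⟩ := q.surj m
    have h1 : NN Z a ≤ q.pre (sSup (PPa q)) := by
      refine sSup_le fun u hu x hx => ⟨hu.le_NN hx, ?_⟩
      exact AddSubgroup.mem_sSup_of_mem (⟨u, hu, rfl⟩ : q.im u ∈ PPa q) (q.π_mem_im hx (hu.le_NN hx))
    exact (h1 hn).2

omit ha in
theorem im_conj_le {t : G} (ht : MulAut.conj t • a = a) {r r' : Subgroup G} (hr : Adj Z a r) (hr' : Adj Z a r') :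
    q.im (MulAut.conj t • r') ≤ pr (Ta q) (q.im (MulAut.conj t • r)) ↔ q.im r' ≤ pr (Ta q) (q.im r) := by
  rw [P.le_pr q (P.adj_conj_of q hr ht) (P.adj_conj_of q hr' ht), P.le_pr q hr hr', NN_conj, ← conj_centralizer,
    conj_le_iff]

omit ha in
theorem cn_conj {t : G} (ht : MulAut.conj t • a = a) {r r' : Subgroup G} (hr : Adj Z a r) (hr' : Adj Z a r')
    (h : Cn (PPa q) (Ta q) (q.im r) (q.im r')) :
    Cn (PPa q) (Ta q) (q.im (MulAut.conj t • r)) (q.im (MulAut.conj t • r')) := by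
  obtain ⟨_, ⟨s, hs, rfl⟩, h1, h2⟩ := h
  refine ⟨_, ⟨_, P.adj_conj_of q hs ht, rfl⟩, ?_, ?_⟩
  · rwa [P.im_conj_le q ht hr hs]
  · rwa [P.im_conj_le q ht hr' hs]

omit ha q in
theorem Bfix' (i : Fin 2) (k : G) : ∃ T : Subgroup G, IsPGroup 2 T ∧ (∀ t ∈ T, MulAut.conj t • (MulAut.conj k • Z i) =
    MulAut.conj k • Z i) ∧ (∀ t ∈ T, MulAut.conj t • (MulAut.conj k • Z (i + 1)) = MulAut.conj k • Z (i + 1)) ∧
    ∀ n ∈ NN Z (MulAut.conj k • Z i), (∀ t ∈ T, t * n * t⁻¹ = n) →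
      n ∈ MulAut.conj k • Z i ⊔ MulAut.conj k • Z (i + 1) := by
  refine ⟨MulAut.conj k • B, ?_, ?_, ?_, ?_⟩
  · exact P.B2.of_equiv (Subgroup.equivSMul (MulAut.conj k) B)
  · intro t ht
    rw [mem_conj] at ht
    have h1 := norm_conj (P.BZ i ht)
    have h2 := congrArg (fun A => MulAut.conj k • A) h1
    simp only [conj_conj] at h2
    have e : k * (k⁻¹ * t * k) = t * k := by group
    rw [e, ← conj_conj] at h2
    exact h2
  · intro t ht
    rw [mem_conj] at ht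
    have h1 := norm_conj (P.BZ (i + 1) ht)
    have h2 := congrArg (fun A => MulAut.conj k • A) h1
    simp only [conj_conj] at h2
    have e : k * (k⁻¹ * t * k) = t * k := by group
    rw [e, ← conj_conj] at h2
    exact h2
  · intro n hn hf
    rw [NN_conj, mem_conj] at hn
    rw [← conj_sup', mem_conj]
    rw [← supZ i]
    refine P.Bfix i _ hn fun b hb => ?_
    have h1 := hf (k * b * k⁻¹) (mem_conj_self hb)
    have e : b * (k⁻¹ * n * k) * b⁻¹ = k⁻¹ * (k * b * k⁻¹ * n * (k * b * k⁻¹)⁻¹) * k := by group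
    rw [e, h1]

/-- **One component** (helper262, (2')) -/
theorem cn_one {u w₁ : Subgroup G} (hu : Adj Z a u) (hw₁ : Adj Z a w₁) : Cn (PPa q) (Ta q) (q.im u) (q.im w₁) := by
  classical
  have gL := P.geoL ha q
  have mP : ∀ r, Adj Z a r → q.im r ∈ PPa q := fun r h => ⟨r, h, rfl⟩
  obtain ⟨i, k, hk, hku⟩ := hu
  have hu : Adj Z a u := ⟨i, k, hk, hku⟩
  by_contra hcon
  obtain ⟨T, hT2, hTa, hTu, hTf⟩ := P.Bfix' i k
  rw [← hk] at hTa hTf
  rw [← hku] at hTu hTf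
  set C : AddSubgroup M := MC (PPa q) (Ta q) (q.im w₁) with hC
  have hTN : ∀ t ∈ T, ∀ x ∈ NN Z a, t * x * t⁻¹ ∈ NN Z a := by
    intro t ht x hx
    have h1 : MulAut.conj t • NN Z a = NN Z a := by rw [← NN_conj, hTa t ht]
    rw [← h1]
    exact mem_conj_self hx
  have hTa' : ∀ t ∈ T, ∀ x ∈ a, t * x * t⁻¹ ∈ a := by
    intro t ht x hx
    have := mem_conj_self (k := t) hx
    rwa [hTa t ht] at this
  -- elements mapping `w₁` into its component
  have hmap : ∀ t ∈ T, Cn (PPa q) (Ta q) (q.im w₁) (q.im (MulAut.conj t • w₁)) →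
      ∀ x ∈ NN Z a, π x ∈ C → π (t * x * t⁻¹) ∈ C := by
    intro t ht hcn x hx hxC
    obtain ⟨φ, hφ⟩ := P.act_ex q (hTa t ht)
    rw [← hφ x hx]
    have h1 : C ≤ C.comap φ.toAddMonoidHom := by
      refine sSup_le ?_
      rintro _ ⟨⟨r, hr, rfl⟩, hr2⟩
      rintro _ ⟨y, hy, hyN, rfl⟩
      change φ (π y) ∈ C
      rw [hφ y hyN]
      have h2 := P.cn_conj q (hTa t ht) hw₁ hr hr2
      have h3 := gL.cn_trans ⟨w₁, hw₁, rfl⟩ ⟨_, P.adj_conj_of q hw₁ (hTa t ht), rfl⟩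
        ⟨_, P.adj_conj_of q hr (hTa t ht), rfl⟩ hcn h2
      refine le_MC (mP _ (P.adj_conj_of q hr (hTa t ht))) h3 ?_
      exact q.π_mem_im (mem_conj_self hy) (hTN t ht y hyN)
    exact h1 hxC
  let T₁ : Subgroup G := T ⊓ normalizer (q.pre C : Set G)
  have hT₁ : ∀ t ∈ T₁, ∀ x ∈ NN Z a, π x ∈ C → π (t * x * t⁻¹) ∈ C := by
    intro t ht x hx hxC
    exact ((mem_normalizer_iff.1 ht.2 x).1 ⟨hx, hxC⟩).2
  obtain ⟨y₀, hy₀, hy₀1⟩ := P.exists_ne (P.adj_pt hw₁)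
  have hw₁C : Cn (PPa q) (Ta q) (q.im w₁) (q.im w₁) := gL.cn_refl ⟨w₁, hw₁, rfl⟩
  obtain ⟨x₀, hx₀N, hx₀C, hx₀0, hx₀T⟩ := q.fixed_vec (T := T₁) (hT2.to_le inf_le_left)
    (fun t ht => hTN t ht.1) (fun t ht => hTa' t ht.1) (C := C) hT₁
    (y := π y₀) (le_MC (mP _ hw₁) hw₁C (q.π_mem_im hy₀ (hw₁.le_NN hy₀))) (P.π_ne q hw₁ hy₀ hy₀1) (by
      rw [← q.mul _ (hw₁.le_NN hy₀) _ (hw₁.le_NN hy₀), P.sq_one ha (hw₁.le_NN hy₀), q.one])
  -- the point of the fixed vector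
  obtain ⟨_, ⟨w, hw, rfl⟩, hcw, x, hx, hxN, hxe⟩ := gL.vec ⟨w₁, hw₁, rfl⟩ (π x₀) hx₀C hx₀0
  have hx1 : x ≠ 1 := by
    rintro rfl
    apply hx₀0
    rw [← hxe, q.one]
  have hxT : ∀ t ∈ T₁, t * x * t⁻¹ = x := by
    intro t ht
    have h1 : π (t * x * t⁻¹) = π x := by
      obtain ⟨φ, hφ⟩ := P.act_ex q (hTa t ht.1)
      rw [← hφ x hxN, hxe, hφ x₀ hx₀N, hx₀T t ht]
    have h2 : MulAut.conj t • w = w := by
      refine P.im_inj q (P.adj_conj_of q hw (hTa t ht.1)) hw (mem_conj_self hx) (fun e => hx1 (conj_eq_one_iff.1 e)) ?_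
      rw [h1]
      exact q.π_mem_im hx hxN
    have h3 : t * x * t⁻¹ ∈ w := by
      have := mem_conj_self (k := t) hx
      rwa [h2] at this
    have h4 : x⁻¹ * (t * x * t⁻¹) ∈ a := (q.eq_iff hxN (hTN t ht.1 x hxN)).1 h1.symm
    have h5 := P.pt_disj q hw (mul_mem (inv_mem hx) h3) h4
    exact (inv_mul_eq_one.1 h5).symm
  -- the orbit
  let O : Finset G := (Set.toFinite {y : G | ∃ t ∈ T, y = t * x * t⁻¹}).toFinset
  have hO : ∀ y, y ∈ O ↔ ∃ t ∈ T, y = t * x * t⁻¹ := fun y => by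
    simp only [O, Set.Finite.mem_toFinset, Set.mem_ofPred_eq]
  obtain ⟨n, hn, hnπ, hnT⟩ := q.exists_prod (fun x hx y hy => P.abN ha hx hy) O (by
    intro y hy
    obtain ⟨t, ht, rfl⟩ := (hO y).1 hy
    exact hTN t ht x hxN)
  have hnau : n ∈ a ⊔ u := by
    refine hTf n hn fun t ht => hnT t fun y hy => ?_
    obtain ⟨t', ht', rfl⟩ := (hO y).1 hy
    exact (hO _).2 ⟨t * t', mul_mem ht ht', by group⟩
  have hnu : π n ∈ q.im u := by
    obtain ⟨α, hα, υ, hυ, rfl⟩ := P.mem_au hu hnau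
    have hυN := hu.le_NN hυ
    have hαN : α ∈ NN Z a := by
      have := mul_mem hn (inv_mem hυN)
      rwa [mul_inv_cancel_right] at this
    rw [q.mul α hαN υ hυN, (q.ker α hαN).2 hα, zero_add]
    exact q.π_mem_im hυ hυN
  -- a neighbour of `w`
  obtain ⟨_, ⟨r, hr, rfl⟩, hrw⟩ := gL.nbr _ ⟨w, hw, rfl⟩
  have hr1 : Cn (PPa q) (Ta q) (q.im w₁) (q.im r) := gL.cn_step ⟨w₁, hw₁, rfl⟩ ⟨w, hw, rfl⟩ ⟨r, hr, rfl⟩ hcw hrw
  have hur : q.im u ≤ pr (Ta q) (q.im r) := by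
    by_contra h
    exact hcon (gL.cn_step ⟨w₁, hw₁, rfl⟩ ⟨r, hr, rfl⟩ ⟨u, hu, rfl⟩ hr1 h).symm
  have hrest : ∀ y ∈ O.erase x, π y ∈ pr (Ta q) (q.im r) := by
    intro y hy
    rw [Finset.mem_erase] at hy
    obtain ⟨hyx, hyO⟩ := hy
    obtain ⟨t, ht, rfl⟩ := (hO y).1 hyO
    by_contra h
    apply hyx
    have h1 : Cn (PPa q) (Ta q) (q.im w₁) (q.im (MulAut.conj t • w)) := by
      refine gL.cn_step ⟨w₁, hw₁, rfl⟩ ⟨r, hr, rfl⟩ ⟨_, P.adj_conj_of q hw (hTa t ht), rfl⟩ hr1 fun h2 => h (h2 ?_)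
      exact q.π_mem_im (mem_conj_self hx) (hTN t ht x hxN)
    have h2 := P.cn_conj q (hTa t ht) hw₁ hw hcw
    have h3 : Cn (PPa q) (Ta q) (q.im w₁) (q.im (MulAut.conj t • w₁)) :=
      gL.cn_trans ⟨w₁, hw₁, rfl⟩ ⟨_, P.adj_conj_of q hw (hTa t ht), rfl⟩ ⟨_, P.adj_conj_of q hw₁ (hTa t ht), rfl⟩ h1
        h2.symm
    refine hxT t ⟨ht, ?_⟩
    refine mem_normalizer_fintype fun y hy => ?_
    have hy' : y ∈ NN Z a ∧ π y ∈ C := hy
    exact (⟨hTN t ht y hy'.1, hmap t ht h3 y hy'.1 hy'.2⟩ : t * y * t⁻¹ ∈ q.pre C)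
  have hxO : x ∈ O := (hO x).2 ⟨1, one_mem _, by group⟩
  rw [← Finset.add_sum_erase O π hxO] at hnπ
  have hx2 : π x ∈ pr (Ta q) (q.im r) := by
    have h1 : π x = π n - ∑ y ∈ O.erase x, π y := by rw [hnπ]; abel
    rw [h1]
    exact sub_mem (hur hnu) (sum_mem hrest)
  have hwr : ¬ q.im w ≤ pr (Ta q) (q.im r) := gL.nsym ⟨w, hw, rfl⟩ ⟨r, hr, rfl⟩ hrw
  exact gL.not_mem ⟨r, hr, rfl⟩ ⟨w, hw, rfl⟩ hwr (q.π_mem_im hx hxN) (P.π_ne q hw hx hx1) hx2

/-- **The geometry has one component.** -/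
theorem geoO : GeoO (PPa q) (Ta q) where
  toGeoL := P.geoL ha q
  cn := by
    rintro _ ⟨w, hw, rfl⟩ _ ⟨w', hw', rfl⟩
    exact P.cn_one ha q hw hw'
  nonempty := by
    obtain ⟨i, k, rfl⟩ := ha
    exact ⟨_, _, ⟨i, k, rfl, rfl⟩, rfl⟩

end quot

end TQL

end Cfsg.Agent.Omega.OM.TV

end

section


/-!
# Two types of points: the index is `q`: `1 ≠ [N_0, N_1] ≤ Z_0Z_1` implies `|N_i : C_{N_i}(N_{i+1})| = |Z_0|`

`Con` : `N_G(a)` is transitive on the neighbours of `a`. `TQ0.bd`, `TQ0.ln` : the hypotheses of `Big.Bd.false_of_line` for `N_a / a`; `TQ0.idx_eq`; `TQ0.toTQ`.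
-/

set_option autoImplicit false
set_option linter.unusedSectionVars false

namespace Cfsg.Agent.Omega.OM.TV

open Subgroup Cfsg Cfsg.Agent.ZN Cfsg.Agent.Omega.MinPar
open Cfsg.Agent.Omega.NoFF.Basic (conj_conj mem_conj conj_le_iff conj_le_centralizer comm_symm comm_mono)
open Cfsg.Agent.Omega.NOThreeL.Pair (conj_eq_of_mem)
open Cfsg.Agent.Omega.OM.PG (HH QQ HH_conj QQ_conj conj_inv_conj inv_conj_conj)
open Cfsg.Agent.Omega.NO3S.EThree (conj_sup' conj_centralizer relIndex_conj mem_sup_of_comm norm_conj conj_norm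
  conj_normalizer mem_conj_self Qt exists_qt)
open Cfsg.Agent.Omega.NO3S.EThree.PtGeo
open scoped Pointwise

universe u

variable {G : Type u} [Group G]

/-- `N_G(a)` is transitive on the neighbours of `a` -/
def Con (Z : Fin 2 → Subgroup G) : Prop := ∀ a u u' : Subgroup G, Adj Z a u → Adj Z a u' →
  ∃ g : G, MulAut.conj g • a = a ∧ MulAut.conj g • u = u'

namespace TQ0

variable [Finite G] {Z U : Fin 2 → Subgroup G} (P : TQ0 Z U)
include P

variable {a : Subgroup G} {M : Type u} [AddCommGroup M] {π : G → M} (q : Qt (NN Z a) a M π)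
include q

theorem conj_mem_NN {w : Subgroup G} (hw : Adj Z a w) {t : G} (ht : t ∈ NN Z w) {n : G} (hn : n ∈ NN Z a) :
    t * n * t⁻¹ ∈ NN Z a := by
  rw [← P.conj_NN hw ht]
  exact mem_conj_self hn

theorem eta_ex {w : Subgroup G} (hw : Adj Z a w) {t : G} (ht : t ∈ NN Z w) :
    ∃ η : M →+ M, ∀ x ∈ NN Z a, η (π x) = π (t * x * t⁻¹) - π x := by
  obtain ⟨φ, hφ⟩ := P.act_ex q (P.conj_pt hw ht)
  refine ⟨φ.toAddMonoidHom - AddMonoidHom.id M, fun x hx => ?_⟩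
  rw [AddMonoidHom.sub_apply, ← hφ x hx]
  rfl

theorem eta_im {w : Subgroup G} (hw : Adj Z a w) {t : G} (ht : t ∈ NN Z w) {n : G} (hn : n ∈ NN Z a) :
    π (t * n * t⁻¹) - π n ∈ q.im w := by
  obtain ⟨α, hα, υ, hυ, e⟩ := P.mem_au hw (P.com' hw hn ht)
  have hυN := hw.le_NN hυ
  have htn := P.conj_mem_NN q hw ht hn
  have e1 : (t * n * t⁻¹)⁻¹ * (n * υ⁻¹) ∈ a := by
    have e2 : (t * n * t⁻¹)⁻¹ = n⁻¹ * (n * t * n⁻¹ * t⁻¹) := by group
    have e3 : υ * n = n * υ := P.abN hw.pt hυN hn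
    have e4 : n⁻¹ * α = α * n⁻¹ := (P.aN hw.pt hα (inv_mem hn)).symm
    have e5 : (t * n * t⁻¹)⁻¹ * (n * υ⁻¹) = α := by
      rw [e2, e]
      calc n⁻¹ * (α * υ) * (n * υ⁻¹) = (n⁻¹ * α) * (υ * n) * υ⁻¹ := by group
        _ = (α * n⁻¹) * (n * υ) * υ⁻¹ := by rw [e3, e4]
        _ = α := by group
    rw [e5]
    exact hα
  have e6 : π (t * n * t⁻¹) = π (n * υ⁻¹) := (q.eq_iff htn (mul_mem hn (inv_mem hυN))).2 e1
  rw [e6, q.mul n hn _ (inv_mem hυN), add_sub_cancel_left]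
  exact q.π_mem_im (inv_mem hυ) (inv_mem hυN)

/-- `t ∈ N_w` fixing a nonzero vector of the point `r` centralises `r` -/
theorem eta_one {w r : Subgroup G} (hw : Adj Z a w) {t : G} (ht : t ∈ NN Z w) (hr : Adj Z a r) {y : G} (hy : y ∈ r)
    (hy1 : y ≠ 1) (h : π (t * y * t⁻¹) = π y) : ∀ z ∈ r, z * t = t * z := by
  intro z hz
  by_cases hrw : r = w
  · subst hrw
    exact (mem_centralizer_iff.1 (P.self_le (P.adj_pt hr) hz) t ht).symm
  · refine P.cent_of_norm hw hr hrw ht ?_ hz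
    refine P.im_inj q (P.adj_conj_of q hr (P.conj_pt hw ht)) hr (mem_conj_self hy) (fun e => hy1 (conj_eq_one_iff.1 e)) ?_
    rw [h]
    exact q.π_mem_im hy (hr.le_NN hy)

/-- `N_w - 1` on `N_a / a` -/
def Te : AddSubgroup M → AddSubgroup (M →+ M) := fun p =>
  { carrier := {η | ∀ w, Adj Z a w → p = q.im w → ∃ t ∈ NN Z w, ∀ x ∈ NN Z a, η (π x) = π (t * x * t⁻¹) - π x}
    zero_mem' := fun w hw hp => ⟨1, one_mem _, fun x hx => by
      rw [one_mul, inv_one, mul_one, sub_self]; rfl⟩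
    add_mem' := by
      intro η η' hη hη' w hw hp
      obtain ⟨t, ht, h1⟩ := hη w hw hp
      obtain ⟨t', ht', h2⟩ := hη' w hw hp
      refine ⟨t * t', mul_mem ht ht', fun x hx => ?_⟩
      have hx' := P.conj_mem_NN q hw ht' hx
      have h3 := P.eta_im q hw ht' hx
      obtain ⟨υ, hυ, hυN, e⟩ := q.mem_im.1 h3
      have h4 : η (π υ) = 0 := by
        rw [h1 υ hυN]
        have : t * υ * t⁻¹ = υ := by
          rw [mem_centralizer_iff.1 (P.self_le (P.adj_pt hw) hυ) t ht, mul_inv_cancel_right]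
        rw [this, sub_self]
      have h5 : η (π (t' * x * t'⁻¹)) = η (π x) := by
        have : π (t' * x * t'⁻¹) = π υ + π x := by rw [e]; abel
        rw [this, map_add, h4, zero_add]
      have h6 := h1 _ hx'
      have e7 : t * t' * x * (t * t')⁻¹ = t * (t' * x * t'⁻¹) * t⁻¹ := by group
      rw [AddMonoidHom.add_apply, h2 x hx, e7, ← h5, h6]
      abel
    neg_mem' := by
      intro η hη w hw hp
      obtain ⟨t, ht, h1⟩ := hη w hw hp
      refine ⟨t⁻¹, inv_mem ht, fun x hx => ?_⟩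
      have hx' := P.conj_mem_NN q hw (inv_mem ht) hx
      have h3 := P.eta_im q hw (inv_mem ht) hx
      obtain ⟨υ, hυ, hυN, e⟩ := q.mem_im.1 h3
      have h4 : η (π υ) = 0 := by
        rw [h1 υ hυN]
        have : t * υ * t⁻¹ = υ := by
          rw [mem_centralizer_iff.1 (P.self_le (P.adj_pt hw) hυ) t ht, mul_inv_cancel_right]
        rw [this, sub_self]
      have h5 : η (π (t⁻¹ * x * t⁻¹⁻¹)) = η (π x) := by
        have : π (t⁻¹ * x * t⁻¹⁻¹) = π υ + π x := by rw [e]; abel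
        rw [this, map_add, h4, zero_add]
      have h6 := h1 _ hx'
      have e7 : t * (t⁻¹ * x * t⁻¹⁻¹) * t⁻¹ = x := by group
      rw [e7, h5] at h6
      rw [AddMonoidHom.neg_apply, h6]
      abel }

theorem mem_Te {w : Subgroup G} (hw : Adj Z a w) {η : M →+ M} :
    η ∈ Te P q (q.im w) ↔ ∃ t ∈ NN Z w, ∀ x ∈ NN Z a, η (π x) = π (t * x * t⁻¹) - π x := by
  constructor
  · intro h
    exact h w hw rfl
  · rintro ⟨t, ht, h⟩ w' hw' e
    have := P.im_eq q hw hw' e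
    subst this
    exact ⟨t, ht, h⟩

/-- `η` kills the point `r` iff `t` centralises `r` -/
theorem kill_iff {w r : Subgroup G} (hw : Adj Z a w) (hr : Adj Z a r) {t : G} (ht : t ∈ NN Z w) {η : M →+ M}
    (h : ∀ x ∈ NN Z a, η (π x) = π (t * x * t⁻¹) - π x) {b : M} (hb : b ∈ q.im r) (hb0 : b ≠ 0) :
    η b = 0 ↔ ∀ z ∈ r, z * t = t * z := by
  obtain ⟨y, hy, hyN, rfl⟩ := q.mem_im.1 hb
  have hy1 : y ≠ 1 := by
    rintro rfl
    exact hb0 q.one
  constructor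
  · intro h0
    rw [h y hyN, sub_eq_zero] at h0
    exact P.eta_one q hw ht hr hy hy1 h0
  · intro hc
    rw [h y hyN, ← hc y hy, mul_inv_cancel_right, sub_self]

theorem kill_of {r : Subgroup G} {t : G} {η : M →+ M}
    (h : ∀ x ∈ NN Z a, η (π x) = π (t * x * t⁻¹) - π x) (hc : ∀ z ∈ r, z * t = t * z) : ∀ v ∈ q.im r, η v = 0 := by
  rintro _ ⟨y, hy, hyN, rfl⟩
  rw [h y hyN, ← hc y hy, mul_inv_cancel_right, sub_self]

theorem ne_zero_ex {r : Subgroup G} (hr : Adj Z a r) : ∃ v ∈ q.im r, v ≠ 0 := by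
  obtain ⟨x, hx, hx1⟩ := P.exists_ne (P.adj_pt hr)
  exact ⟨π x, q.π_mem_im hx (hr.le_NN hx), P.π_ne q hr hx hx1⟩

theorem adj_iff {w r : Subgroup G} (hw : Adj Z a w) (hr : Adj Z a r) :
    Cfsg.Agent.Omega.NO3S.EThree.Big.Adj (Te P q) (q.im w) (q.im r) ↔ ¬ r ≤ centralizer (NN Z w : Set G) := by
  constructor
  · rintro ⟨η, hη, v, hv, h0⟩ hle
    obtain ⟨t, ht, h⟩ := (P.mem_Te q hw).1 hη
    exact h0 (P.kill_of q h (fun z hz => (mem_centralizer_iff.1 (hle hz) t ht).symm) v hv)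
  · intro hle
    obtain ⟨z, hz, hzc⟩ := SetLike.not_le_iff_exists.1 hle
    rw [mem_centralizer_iff] at hzc
    push Not at hzc
    obtain ⟨t, ht, hne⟩ := hzc
    obtain ⟨η, hη⟩ := P.eta_ex q hw ht
    obtain ⟨v, hv, hv0⟩ := P.ne_zero_ex q hr
    refine ⟨η, (P.mem_Te q hw).2 ⟨t, ht, hη⟩, v, hv, fun h0 => hne ?_⟩
    exact ((P.kill_iff q hw hr ht hη hv hv0).1 h0 z hz).symm

theorem card_im {w : Subgroup G} (hw : Adj Z a w) : Nat.card (q.im w) = Nat.card (Z 0) := by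
  rw [← P.card_pt (P.adj_pt hw)]
  let f : w → q.im w := fun x => ⟨π x, q.π_mem_im x.2 (hw.le_NN x.2)⟩
  have hf : Function.Bijective f := by
    constructor
    · intro x y hxy
      have h1 : π x = π y := congrArg Subtype.val hxy
      rw [q.eq_iff (hw.le_NN x.2) (hw.le_NN y.2)] at h1
      have h2 := P.pt_disj q hw (mul_mem (inv_mem x.2) y.2) h1
      exact Subtype.ext (inv_mul_eq_one.1 h2)
    · rintro ⟨_, x, hx, hxN, rfl⟩
      exact ⟨⟨x, hx⟩, rfl⟩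
  exact (Nat.card_congr (Equiv.ofBijective f hf)).symm

theorem finM : Finite M := by
  apply Finite.of_surjective (fun x : NN Z a => π x)
  intro m
  obtain ⟨x, hx, e⟩ := q.surj m
  exact ⟨⟨x, hx⟩, e⟩

/-- surjectivity of the evaluations -/
theorem eta_sur {w r : Subgroup G} (hw : Adj Z a w) (hr : Adj Z a r) (hwr : ¬ r ≤ centralizer (NN Z w : Set G))
    {b : M} (hb : b ∈ q.im r) (hb0 : b ≠ 0) {v : M} (hv : v ∈ q.im w) : ∃ η ∈ Te P q (q.im w), η b = v := by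
  have hsym := P.adj_symm hw
  -- a point of `N_w`
  obtain ⟨z, hz, hrz⟩ : ∃ z, Adj Z w z ∧ ¬ r ≤ centralizer (z : Set G) := by
    by_contra hcon
    push Not at hcon
    apply hwr
    rw [le_centralizer_iff]
    exact sSup_le fun z hz => le_centralizer_iff.1 (hcon z hz)
  have hza : z ≠ a := by
    rintro rfl
    exact hrz (hr.le_NN.trans (P.self' hr.pt))
  obtain ⟨x₀, hx₀, hx₀N, rfl⟩ := q.mem_im.1 hb
  have hx₀1 : x₀ ≠ 1 := by
    rintro rfl
    exact hb0 q.one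
  have hzw : ∀ t ∈ z, t ∈ NN Z w := fun t ht => hz.le_NN ht
  let f : z → q.im w := fun t => ⟨π ((t : G) * x₀ * (t : G)⁻¹) - π x₀, P.eta_im q hw (hzw _ t.2) hx₀N⟩
  have hf : Function.Injective f := by
    intro s t hst
    have h1 : π ((s : G) * x₀ * (s : G)⁻¹) - π x₀ = π ((t : G) * x₀ * (t : G)⁻¹) - π x₀ := congrArg Subtype.val hst
    have h2 : π ((s : G) * x₀ * (s : G)⁻¹) = π ((t : G) * x₀ * (t : G)⁻¹) := sub_left_injective h1
    have hg : (t : G)⁻¹ * s ∈ z := mul_mem (inv_mem t.2) s.2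
    by_contra hne
    have hg1 : (t : G)⁻¹ * s ≠ 1 := fun e => hne (Subtype.ext (inv_mul_eq_one.1 e).symm)
    have h3 : π (((t : G)⁻¹ * s) * x₀ * ((t : G)⁻¹ * s)⁻¹) = π x₀ := by
      obtain ⟨φ, hφ⟩ := P.act_ex q (P.conj_pt hw (inv_mem (hzw _ t.2)))
      have h4 := congrArg φ h2
      rw [hφ _ (P.conj_mem_NN q hw (hzw _ s.2) hx₀N), hφ _ (P.conj_mem_NN q hw (hzw _ t.2) hx₀N)] at h4
      have e1 : (t : G)⁻¹ * (s * x₀ * (s : G)⁻¹) * (t : G)⁻¹⁻¹ = (t : G)⁻¹ * s * x₀ * ((t : G)⁻¹ * s)⁻¹ := by group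
      have e2 : (t : G)⁻¹ * (t * x₀ * (t : G)⁻¹) * (t : G)⁻¹⁻¹ = x₀ := by group
      rwa [e1, e2] at h4
    have h4 := P.eta_one q hw (hzw _ hg) hr hx₀ hx₀1 h3
    apply hrz
    intro x hx
    refine mem_centralizer_iff.2 fun y hy => ?_
    refine P.cent_of_norm hsym hz hza (hr.le_NN hx) ?_ hy
    refine P.norm_of (P.adj_pt hz) hg hg1 ?_
    rw [h4 x hx, mul_inv_cancel_right]
    exact hg
  have := finM P q
  have hc : Nat.card (q.im w) ≤ Nat.card z := by rw [P.card_im q hw, P.card_pt (P.adj_pt hz)]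
  obtain ⟨t, ht⟩ := (hf.bijective_of_nat_card_le hc).2 ⟨v, hv⟩
  obtain ⟨η, hη⟩ := P.eta_ex q hw (hzw _ t.2)
  exact ⟨η, (P.mem_Te q hw).2 ⟨t, hzw _ t.2, hη⟩, (hη x₀ hx₀N).trans (congrArg Subtype.val ht)⟩

theorem inv_eta {w : Subgroup G} (hw : Adj Z a w) {t : G} (ht : t ∈ NN Z w) {η : M →+ M}
    (h : ∀ x ∈ NN Z a, η (π x) = π (t * x * t⁻¹) - π x) (h2 : ∀ m, η (η m) = 0) {x : G} (hx : x ∈ NN Z a) :
    π (t⁻¹ * x * t) = π x - η (π x) := by
  have hx' : t⁻¹ * x * t ∈ NN Z a := by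
    have := P.conj_mem_NN q hw (inv_mem ht) hx
    rwa [inv_inv] at this
  have h1 := h _ hx'
  have e : t * (t⁻¹ * x * t) * t⁻¹ = x := by group
  rw [e] at h1
  have h3 : π (t⁻¹ * x * t) = π x - η (π (t⁻¹ * x * t)) := by rw [h1]; abel
  have h4 : η (π (t⁻¹ * x * t)) = η (π x) := by
    conv_lhs => rw [h3]
    rw [map_sub, h2, sub_zero]
  rw [h4] at h3
  exact h3

theorem eta_cl {w r : Subgroup G} (hw : Adj Z a w) (hr : Adj Z a r) {φ ψ : M →+ M} (hφ : φ ∈ Te P q (q.im w))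
    (hψ : ψ ∈ Te P q (q.im r)) (hk : ∀ v ∈ q.im w, ψ v = 0) : φ.comp ψ ∈ Te P q (q.im w) := by
  obtain ⟨s, hs, h1⟩ := (P.mem_Te q hw).1 hφ
  obtain ⟨t, ht, h2⟩ := (P.mem_Te q hr).1 hψ
  have imφ : ∀ m, φ m ∈ q.im w := by
    intro m
    obtain ⟨n, hn, rfl⟩ := q.surj m
    rw [h1 n hn]
    exact P.eta_im q hw hs hn
  have imψ : ∀ m, ψ m ∈ q.im r := by
    intro m
    obtain ⟨n, hn, rfl⟩ := q.surj m
    rw [h2 n hn]
    exact P.eta_im q hr ht hn
  have kφ : ∀ v ∈ q.im w, φ v = 0 := P.kill_of q h1 fun z hz =>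
    (mem_centralizer_iff.1 (P.self_le (P.adj_pt hw) hz) s hs).symm
  have kψ : ∀ v ∈ q.im r, ψ v = 0 := P.kill_of q h2 fun z hz =>
    (mem_centralizer_iff.1 (P.self_le (P.adj_pt hr) hz) t ht).symm
  obtain ⟨v, hv, hv0⟩ := P.ne_zero_ex q hw
  have htw := (P.kill_iff q hr hw ht h2 hv hv0).1 (hk v hv)
  -- `t` normalises `N_w`
  have htN : MulAut.conj t • NN Z w = NN Z w := by
    rw [← NN_conj]
    congr 1
    exact conj_eq_of_mem (centralizer_le_normalizer _ (mem_centralizer_iff.2 fun z hz => htw z hz))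
  refine (P.mem_Te q hw).2 ⟨s * (t * s⁻¹ * t⁻¹), mul_mem hs ?_, fun n hn => ?_⟩
  · rw [← htN]
    exact mem_conj_self (inv_mem hs)
  · have y1 : t⁻¹ * n * t ∈ NN Z a := by
      have := P.conj_mem_NN q hr (inv_mem ht) hn
      rwa [inv_inv] at this
    have y2 : s⁻¹ * (t⁻¹ * n * t) * s ∈ NN Z a := by
      have := P.conj_mem_NN q hw (inv_mem hs) y1
      rwa [inv_inv] at this
    have y3 : t * (s⁻¹ * (t⁻¹ * n * t) * s) * t⁻¹ ∈ NN Z a := P.conj_mem_NN q hr ht y2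
    have e1 := P.inv_eta q hr ht h2 (fun m => kψ _ (imψ m)) hn
    have e2 := P.inv_eta q hw hs h1 (fun m => kφ _ (imφ m)) y1
    have e3 : π (t * (s⁻¹ * (t⁻¹ * n * t) * s) * t⁻¹) = π (s⁻¹ * (t⁻¹ * n * t) * s) +
        ψ (π (s⁻¹ * (t⁻¹ * n * t) * s)) := by rw [h2 _ y2]; abel
    have e4 : π (s * (t * (s⁻¹ * (t⁻¹ * n * t) * s) * t⁻¹) * s⁻¹) = π (t * (s⁻¹ * (t⁻¹ * n * t) * s) * t⁻¹) +
        φ (π (t * (s⁻¹ * (t⁻¹ * n * t) * s) * t⁻¹)) := by rw [h1 _ y3]; abel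
    have e5 : s * (t * s⁻¹ * t⁻¹) * n * (s * (t * s⁻¹ * t⁻¹))⁻¹ =
        s * (t * (s⁻¹ * (t⁻¹ * n * t) * s) * t⁻¹) * s⁻¹ := by group
    have k1 : ∀ m, ψ (ψ m) = 0 := fun m => kψ _ (imψ m)
    have k2 : ∀ m, φ (φ m) = 0 := fun m => kφ _ (imφ m)
    have k3 : ∀ m, ψ (φ m) = 0 := fun m => hk _ (imφ m)
    rw [e5, e4, e3, e2, e1]
    show φ (ψ (π n)) = _
    simp only [map_sub, map_add, k1, k2, k3, map_zero]
    abel

theorem eta_card (hC : Con Z) {w w' : Subgroup G} (hw : Adj Z a w) (hw' : Adj Z a w') :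
    Nat.card (Te P q (q.im w)) ≤ Nat.card (Te P q (q.im w')) := by
  obtain ⟨g, hga, hgw⟩ := hC a w w' hw hw'
  obtain ⟨α, hα⟩ := P.act_ex q hga
  have hN : ∀ x ∈ NN Z a, g⁻¹ * x * g ∈ NN Z a := by
    intro x hx
    have h1 : MulAut.conj g • NN Z a = NN Z a := by rw [← NN_conj, hga]
    rw [← h1, mem_conj] at hx
    exact hx
  have hN' : ∀ x ∈ NN Z a, g * x * g⁻¹ ∈ NN Z a := by
    intro x hx
    have h1 : MulAut.conj g • NN Z a = NN Z a := by rw [← NN_conj, hga]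
    rw [← h1]
    exact mem_conj_self hx
  have hα' : ∀ x ∈ NN Z a, α.symm (π x) = π (g⁻¹ * x * g) := by
    intro x hx
    rw [AddEquiv.symm_apply_eq, hα _ (hN x hx)]
    congr 1
    group
  let F : (M →+ M) → (M →+ M) := fun η => (α.toAddMonoidHom.comp η).comp α.symm.toAddMonoidHom
  have hF : ∀ η ∈ Te P q (q.im w), F η ∈ Te P q (q.im w') := by
    intro η hη
    obtain ⟨t, ht, h⟩ := (P.mem_Te q hw).1 hη
    refine (P.mem_Te q hw').2 ⟨g * t * g⁻¹, ?_, fun x hx => ?_⟩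
    · rw [← hgw, NN_conj]
      exact mem_conj_self ht
    · show α (η (α.symm (π x))) = _
      rw [hα' x hx, h _ (hN x hx), map_sub, hα _ (P.conj_mem_NN q hw ht (hN x hx)), hα _ (hN x hx)]
      congr 2 <;> group
  have hinj : Function.Injective F := by
    intro η η' e
    ext m
    have h1 : F η (α m) = F η' (α m) := by rw [e]
    have h2 : α (η (α.symm (α m))) = α (η' (α.symm (α m))) := h1
    rw [AddEquiv.symm_apply_apply] at h2
    exact α.injective h2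
  have := finM P q
  have : Finite (M →+ M) := Cfsg.Agent.Omega.NO3S.EThree.Big.Bd.finite_hom
  refine Nat.card_le_card_of_injective (fun η : Te P q (q.im w) => (⟨F η.1, hF η.1 η.2⟩ : Te P q (q.im w'))) ?_
  intro η η' e
  exact Subtype.ext (hinj (congrArg Subtype.val e))

theorem eq_top_of {K : AddSubgroup M} (h : ∀ w, Adj Z a w → q.im w ≤ K) (m : M) : m ∈ K := by
  obtain ⟨n, hn, rfl⟩ := q.surj m
  have h1 : NN Z a ≤ q.pre K := by
    refine sSup_le fun u hu x hx => ⟨hu.le_NN hx, ?_⟩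
    exact h u hu (q.π_mem_im hx (hu.le_NN hx))
  exact (h1 hn).2

/-- The data of `TBig.lean`. -/
theorem bd (hC : Con Z) : Cfsg.Agent.Omega.NO3S.EThree.Big.Bd (PPa q) (Te P q) where
  ne := by
    rintro _ ⟨w, hw, rfl⟩
    exact P.ne_zero_ex q hw
  ti := by
    rintro _ ⟨w, hw, rfl⟩ _ ⟨w', hw', rfl⟩ m ⟨x, hx, hxN, rfl⟩ h h0
    have hx1 : x ≠ 1 := by
      rintro rfl
      exact h0 q.one
    rw [P.im_inj q hw hw' hx hx1 h]
  im := by
    rintro _ ⟨w, hw, rfl⟩ η hη m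
    obtain ⟨t, ht, h1⟩ := (P.mem_Te q hw).1 hη
    obtain ⟨n, hn, rfl⟩ := q.surj m
    rw [h1 n hn]
    exact P.eta_im q hw ht hn
  ker := by
    rintro _ ⟨w, hw, rfl⟩ η hη
    obtain ⟨t, ht, h1⟩ := (P.mem_Te q hw).1 hη
    exact P.kill_of q h1 fun z hz =>
      (mem_centralizer_iff.1 (P.self_le (P.adj_pt hw) hz) t ht).symm
  one := by
    rintro _ ⟨w, hw, rfl⟩ _ ⟨r, hr, rfl⟩ η hη b hb hb0 h0
    obtain ⟨t, ht, h1⟩ := (P.mem_Te q hw).1 hη
    exact P.kill_of q h1 ((P.kill_iff q hw hr ht h1 hb hb0).1 h0)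
  cl := by
    rintro _ ⟨w, hw, rfl⟩ _ ⟨r, hr, rfl⟩ φ hφ ψ hψ hk
    exact P.eta_cl q hw hr hφ hψ hk
  sur := by
    rintro _ ⟨w, hw, rfl⟩ _ ⟨r, hr, rfl⟩ h b hb hb0 v hv
    exact P.eta_sur q hw hr ((P.adj_iff q hw hr).1 h) hb hb0 hv
  cardP := by
    rintro _ ⟨w, hw, rfl⟩ _ ⟨r, hr, rfl⟩
    rw [P.card_im q hw, P.card_im q hr]
  cardT := by
    rintro _ ⟨w, hw, rfl⟩ _ ⟨r, hr, rfl⟩
    exact le_antisymm (P.eta_card q hC hw hr) (P.eta_card q hC hr hw)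
  span := by
    intro η h
    ext m
    exact P.eq_top_of q (K := η.ker) (fun w hw v hv => h _ ⟨w, hw, rfl⟩ v hv) m
  nbr := by
    rintro _ ⟨w, hw, rfl⟩
    obtain ⟨r, hr, h⟩ := P.exists_moved hw
    exact ⟨q.im r, ⟨r, hr, rfl⟩, (P.adj_iff q hw hr).2 h⟩

theorem le_line_of {i : Fin 2} {k : G} (hk : a = MulAut.conj k • Z i) {w : Subgroup G} (hw : Adj Z a w)
    (h : q.im w ≤ q.im (MulAut.conj k • U (i + 1))) : w ≤ MulAut.conj k • U (i + 1) := by
  subst hk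
  obtain ⟨x, hx, hx1⟩ := P.exists_ne (P.adj_pt hw)
  obtain ⟨l, hl, hlN, e⟩ := q.mem_im.1 (h (q.π_mem_im hx (hw.le_NN hx)))
  have hl1 : l ≠ 1 := by
    rintro rfl
    rw [q.one] at e
    exact P.π_ne q hw hx hx1 e.symm
  obtain ⟨w', hw', hle, hlw⟩ := P.pts1 hl hl1
  have haw' := P.adj_of_le hw' hle
  have : w = w' := P.im_inj q hw haw' hx hx1 (by rw [← e]; exact q.π_mem_im hlw (haw'.le_NN hlw))
  rwa [this]

/-- the line -/
theorem ln {i : Fin 2} {k : G} (hk : a = MulAut.conj k • Z i) :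
    Cfsg.Agent.Omega.NO3S.EThree.Big.Ln (PPa q) (Te P q) (q.im (MulAut.conj k • U (i + 1))) where
  cov := by
    rintro _ ⟨x, hx, hxN, rfl⟩ h0
    have hx1 : x ≠ 1 := by
      rintro rfl
      exact h0 q.one
    obtain ⟨w, hw, hle, hxw⟩ := P.pts1 hx hx1
    subst hk
    exact ⟨q.im w, ⟨w, P.adj_of_le hw hle, rfl⟩, q.im_mono hle, q.π_mem_im hxw hxN⟩
  perp := by
    rintro _ ⟨w, hw, rfl⟩ hwV _ ⟨r, hr, rfl⟩ hrV
    have h1 := P.le_line_of q hk hw hwV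
    have h2 := P.le_line_of q hk hr hrV
    rw [P.adj_iff q hw hr, not_not]
    subst hk
    obtain ⟨g, g1, -, g3, -⟩ := P.tr1 (P.adj_pt hw) h1
    have h4 := P.line_le_cent i (g * k)
    rw [← conj_conj, ← conj_conj, g1, g3] at h4
    exact h2.trans h4
  gen := by
    rintro _ ⟨w, hw, rfl⟩ hwV _ ⟨r, hr, rfl⟩ hrV hne
    have h1 := P.le_line_of q hk hw hwV
    have h2 := P.le_line_of q hk hr hrV
    have hne' : w ≠ r := by
      rintro rfl
      exact hne rfl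
    rw [← P.line_eq (P.adj_pt hw) (P.adj_pt hr) h1 h2 hne']
    refine (q.im_sup hw.le_NN hr.le_NN fun g hg => mem_sup_of_comm (fun z hz => ?_) hg).le
    exact mem_centralizer_iff.2 fun x hx => P.abN hw.pt (hw.le_NN hx) (hr.le_NN hz)
  two := by
    rintro _ ⟨w, hw, rfl⟩ hwV
    obtain ⟨y, hy, hle, hne⟩ := P.exists_other i k (P.adj_pt hw)
    subst hk
    have hay := P.adj_of_le hy hle
    exact ⟨q.im y, ⟨y, hay, rfl⟩, q.im_mono hle, fun e => hne (P.im_eq q hay hw e)⟩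
  ex := by
    subst hk
    exact ⟨q.im (MulAut.conj k • Z (i + 1)), ⟨_, ⟨i, k, rfl, rfl⟩, rfl⟩, q.im_mono (P.pt_le_line i k)⟩

/-- `|T_p| ≤ q` -/
theorem card_Te_le (hC : Con Z) {w : Subgroup G} (hw : Adj Z a w) : Nat.card (Te P q (q.im w)) ≤ Nat.card (Z 0) := by
  have := finM P q
  obtain ⟨i, k, hk, -⟩ := id hw
  by_contra hcon
  push Not at hcon
  refine (P.bd q hC).false_of_line ?_ (P.ln q hk)
  rintro _ ⟨r, hr, rfl⟩
  rw [P.card_im q hr, (P.bd q hC).cardT _ ⟨r, hr, rfl⟩ _ ⟨w, hw, rfl⟩]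
  exact hcon

/-- `|N_w : C_{N_w}(N_a)| ≤ |T_w|` -/
theorem relIndex_le {w : Subgroup G} (hw : Adj Z a w) :
    (centralizer (NN Z a : Set G)).relIndex (NN Z w) ≤ Nat.card (Te P q (q.im w)) := by
  have := finM P q
  have : Finite (M →+ M) := Cfsg.Agent.Omega.NO3S.EThree.Big.Bd.finite_hom
  let C : Subgroup G := centralizer (NN Z a : Set G)
  choose η hη using fun t : NN Z w => P.eta_ex q hw t.2
  let f : (NN Z w ⧸ C.subgroupOf (NN Z w)) → Te P q (q.im w) := fun x =>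
    ⟨η x.out, (P.mem_Te q hw).2 ⟨x.out, x.out.2, hη x.out⟩⟩
  refine Nat.card_le_card_of_injective f ?_
  intro x y hxy
  have h1 : η x.out = η y.out := congrArg Subtype.val hxy
  set s : G := (x.out : G) with hs
  set t : G := (y.out : G) with ht
  have hsN : s ∈ NN Z w := x.out.2
  have htN : t ∈ NN Z w := y.out.2
  have hst : s⁻¹ * t ∈ NN Z w := mul_mem (inv_mem hsN) htN
  have h2 : s⁻¹ * t ∈ C := by
    have key : NN Z a ≤ centralizer ({s⁻¹ * t} : Set G) := by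
      refine sSup_le fun r hr => ?_
      obtain ⟨y₀, hy₀, hy₀1⟩ := P.exists_ne (P.adj_pt hr)
      have hy₀N := hr.le_NN hy₀
      have h3 : π (s * y₀ * s⁻¹) = π (t * y₀ * t⁻¹) := by
        have h4 := hη x.out y₀ hy₀N
        rw [h1, hη y.out y₀ hy₀N] at h4
        exact (sub_left_injective h4).symm
      have h5 : π ((s⁻¹ * t) * y₀ * (s⁻¹ * t)⁻¹) = π y₀ := by
        obtain ⟨φ, hφ⟩ := P.act_ex q (P.conj_pt hw (inv_mem hsN))
        have h6 := congrArg φ h3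
        rw [hφ _ (P.conj_mem_NN q hw hsN hy₀N), hφ _ (P.conj_mem_NN q hw htN hy₀N)] at h6
        have e1 : s⁻¹ * (s * y₀ * s⁻¹) * s⁻¹⁻¹ = y₀ := by group
        have e2 : s⁻¹ * (t * y₀ * t⁻¹) * s⁻¹⁻¹ = s⁻¹ * t * y₀ * (s⁻¹ * t)⁻¹ := by group
        rw [e1, e2] at h6
        exact h6.symm
      have h6 := P.eta_one q hw hst hr hy₀ hy₀1 h5
      intro z hz
      rw [mem_centralizer_singleton_iff]
      exact h6 z hz
    refine mem_centralizer_iff.2 fun n hn => ?_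
    exact (mem_centralizer_singleton_iff.1 (key hn))
  have h3 : (x.out)⁻¹ * y.out ∈ C.subgroupOf (NN Z w) := h2
  have h4 : ((x.out : NN Z w) : NN Z w ⧸ C.subgroupOf (NN Z w)) = (y.out : NN Z w) := QuotientGroup.eq.2 h3
  rwa [QuotientGroup.out_eq', QuotientGroup.out_eq'] at h4

omit q in
/-- **The index is `q`.** -/
theorem idx_eq (hC : Con Z) (i : Fin 2) :
    (centralizer (NN Z (Z (i + 1)) : Set G)).relIndex (NN Z (Z i)) = Nat.card (Z 0) := by
  have h01 : Adj Z (Z i) (Z (i + 1)) := adj_Z i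
  have h10 := P.adj_symm h01
  apply le_antisymm
  · obtain ⟨M, _, π, q⟩ := exists_qt (NN Z (Z (i + 1))) (Z (i + 1)) fun _ hx _ hy => P.abN h10.pt hx hy
    exact (P.relIndex_le q h10).trans (P.card_Te_le q hC h10)
  · obtain ⟨w, hw, hwu⟩ := P.exists_moved h01
    rw [← P.card_pt (P.adj_pt hw)]
    let C : Subgroup G := centralizer (NN Z (Z (i + 1)) : Set G)
    refine Nat.card_le_card_of_injective
      (fun y : w => ((⟨y, hw.le_NN y.2⟩ : NN Z (Z i)) : NN Z (Z i) ⧸ C.subgroupOf (NN Z (Z i)))) ?_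
    intro y z hyz
    have h1 : (⟨y, hw.le_NN y.2⟩ : NN Z (Z i))⁻¹ * ⟨z, hw.le_NN z.2⟩ ∈ C.subgroupOf (NN Z (Z i)) :=
      QuotientGroup.eq.1 hyz
    have h2 : (y : G)⁻¹ * z ∈ C := h1
    have h3 := P.cen_one h01 hw hwu (mul_mem (inv_mem y.2) z.2) h2
    exact Subtype.ext (inv_mul_eq_one.1 h3)

omit q in
theorem toTQ (hC : Con Z) : TQ Z U where
  toTQ0 := P
  idx := P.idx_eq hC

end TQ0

end Cfsg.Agent.Omega.OM.TV

end

end

-- merged: Cfsg.Agent.Mrg.Omega.OM.TV.TEnd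
section

/-!
# The transvection case is impossible, two types of points, no swap (helper918, TEXT W2 #24006 (6))

`TQL.false` : `TQL Z U B → False`  (helper118 #18644 (4)-(7) for all `q`; no STEP F, no module, no (NO)).
-/

set_option autoImplicit false
set_option linter.unusedSectionVars false

namespace Cfsg.Agent.Omega.OM.TV

open Subgroup Cfsg Cfsg.Agent.ZN Cfsg.Agent.Omega.MinPar
open Cfsg.Agent.Omega.NoFF.Basic (conj_conj mem_conj conj_le_iff conj_le_centralizer comm_symm comm_mono)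
open Cfsg.Agent.Omega.NOThreeL.Pair (conj_eq_of_mem)
open Cfsg.Agent.Omega.OM.PG (HH QQ HH_conj QQ_conj conj_inv_conj inv_conj_conj)
open Cfsg.Agent.Omega.NO3S.EThree (conj_sup' conj_centralizer relIndex_conj mem_sup_of_comm norm_conj conj_norm
  conj_normalizer mem_conj_self Qt exists_qt)
open Cfsg.Agent.Omega.NO3S.EThree.PtGeo
open scoped Pointwise

universe u

variable {G : Type u} [Group G]

/-- `R_a = ⟨N_w : w ~ a⟩` -/
def RR (Z : Fin 2 → Subgroup G) (a : Subgroup G) : Subgroup G := sSup {N | ∃ w, Adj Z a w ∧ N = NN Z w}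

theorem NN_le_RR {Z : Fin 2 → Subgroup G} {a w : Subgroup G} (h : Adj Z a w) : NN Z w ≤ RR Z a :=
  le_sSup ⟨w, h, rfl⟩

theorem conj_inv_eq {g : G} {A B : Subgroup G} (h : MulAut.conj g • A = B) : MulAut.conj g⁻¹ • B = A := by
  rw [← h, inv_conj_conj]

namespace TQL

variable [Finite G] {Z U : Fin 2 → Subgroup G} {B : Subgroup G} (P : TQL Z U B)
include P

/-- nonperpendicular points of `N_a` are conjugate -/
theorem move {a w s : Subgroup G} (hw : Adj Z a w) (hs : Adj Z a s) (h : ¬ s ≤ centralizer (NN Z w : Set G)) :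
    ∃ g ∈ NN Z w ⊔ NN Z s, MulAut.conj g • w = s := by
  have hws : ¬ w ≤ centralizer (NN Z s : Set G) := fun h1 => h (P.perp_symm hs hw h1)
  obtain ⟨x, hx, hx1⟩ := P.exists_ne (P.adj_pt hw)
  obtain ⟨y, hy, hy1⟩ := P.exists_ne (P.adj_pt hs)
  have hxN := hw.le_NN hx
  have hyN := hs.le_NN hy
  have hyc : y ∉ centralizer (NN Z w : Set G) := fun h1 => hy1 (P.cen_one hw hs h hy h1)
  have hxc : x ∉ centralizer (NN Z s : Set G) := fun h1 => hx1 (P.cen_one hs hw hws hx h1)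
  obtain ⟨t, ht, α, hα, e⟩ := P.sur hw hyN hyc hx
  obtain ⟨t', ht', α', hα', e'⟩ := P.sur hs hxN hxc hy
  have h1 : t * y * t⁻¹ ∈ MulAut.conj t • s := mem_conj_self hy
  have h2 : t' * x * t'⁻¹ ∈ MulAut.conj t' • w := mem_conj_self hx
  have hta := P.conj_pt hw ht
  have hta' := P.conj_pt hs ht'
  have k1 : Adj Z a (MulAut.conj t • s) := by have := hs.conj t; rwa [hta] at this
  have k2 : Adj Z a (MulAut.conj t' • w) := by have := hw.conj t'; rwa [hta'] at this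
  have h3 : t * y * t⁻¹ ∈ a ⊔ MulAut.conj t' • w := by
    have e1 : t * y * t⁻¹ = t' * x * t'⁻¹ * (α'⁻¹ * α) := by
      rw [e, e', P.abN hw.pt hyN hxN]; group
    rw [e1]
    exact mul_mem (mem_sup_right h2) (mem_sup_left (mul_mem (inv_mem hα') hα))
  have h4 : t * y * t⁻¹ ≠ 1 := fun e => hy1 (conj_eq_one_iff.1 e)
  rcases P.fus' k2 (P.adj_pt k1) h1 h3 h4 with e1 | e1
  · exact absurd e1.symm (P.adj_ne k1)
  · refine ⟨t⁻¹ * t', mul_mem (inv_mem (mem_sup_left ht)) (mem_sup_right ht'), ?_⟩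
    rw [← conj_conj, ← e1, inv_conj_conj]

/-- perp is symmetric, `cen_one` in the form (1) -/
theorem perp_of {a w p : Subgroup G} (hw : Adj Z a w) (hp : Adj Z a p) {x : G} (hx : x ∈ p) (hx1 : x ≠ 1)
    (h : x ∈ centralizer (NN Z w : Set G)) : p ≤ centralizer (NN Z w : Set G) := by
  by_contra hcon
  exact hx1 (P.cen_one hw hp hcon hx h)

/-- every `w ~ a` is perpendicular to a point of every line of `N_a` -/
theorem perp_line {a w : Subgroup G} (hw : Adj Z a w) {i : Fin 2} {k : G} (hk : a = MulAut.conj k • Z i) :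
    ∃ p, IsPt Z p ∧ p ≤ MulAut.conj k • U (i + 1) ∧ p ≤ centralizer (NN Z w : Set G) := by
  have hu : Adj Z a (MulAut.conj k • Z (i + 1)) := ⟨i, k, hk, rfl⟩
  by_cases h : MulAut.conj k • Z (i + 1) ≤ centralizer (NN Z w : Set G)
  · exact ⟨_, P.adj_pt hu, P.pt_le_line i k, h⟩
  obtain ⟨y', hy', hle, hne⟩ := P.exists_other i k (P.adj_pt hu)
  obtain ⟨y, hy, hy1⟩ := P.exists_ne hy'
  have hyN : y ∈ NN Z a := by
    rw [hk]
    exact P.line_le_NN i k (hle hy)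
  obtain ⟨x, hx, hc⟩ := P.dec hw hu h hyN
  have h1 : x⁻¹ * y ∈ MulAut.conj k • U (i + 1) := mul_mem (inv_mem (P.pt_le_line i k hx)) (hle hy)
  have h2 : x⁻¹ * y ≠ 1 := by
    intro e
    have e1 : x = y := inv_mul_eq_one.1 e
    exact hne (P.ti _ _ hy' (P.adj_pt hu) y hy (e1 ▸ hx) hy1)
  obtain ⟨p, hp, hple, hpm⟩ := P.pts1 h1 h2
  refine ⟨p, hp, hple, P.perp_of hw ?_ hpm h2 hc⟩
  rw [hk]
  exact P.adj_of_le hp hple

theorem RR_cent {a : Subgroup G} : RR Z a ≤ centralizer (a : Set G) := by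
  refine sSup_le ?_
  rintro _ ⟨w, hw, rfl⟩
  exact P.NN_le_cent hw

omit P in
theorem conj_RR (g : G) (a : Subgroup G) : MulAut.conj g • RR Z a = RR Z (MulAut.conj g • a) := by
  have key : ∀ (g : G) (a : Subgroup G), RR Z (MulAut.conj g • a) ≤ MulAut.conj g • RR Z a := by
    intro g a
    refine sSup_le ?_
    rintro _ ⟨w, hw, rfl⟩
    have h1 := hw.conj g⁻¹
    rw [inv_conj_conj] at h1
    have h2 := conj_le_iff (g := g) |>.2 (NN_le_RR h1)
    rwa [← NN_conj, conj_inv_conj] at h2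
  refine le_antisymm ?_ (key g a)
  have h1 := key g⁻¹ (MulAut.conj g • a)
  rw [inv_conj_conj] at h1
  have h2 := conj_le_iff (g := g) |>.2 h1
  rwa [conj_inv_conj] at h2

/-- `R_a` is transitive on the `w ~ a`. -/
theorem RR_trans {a w w' : Subgroup G} (hw : Adj Z a w) (hw' : Adj Z a w') : ∃ g ∈ RR Z a, MulAut.conj g • w = w' := by
  obtain ⟨M, _, π, q⟩ := P.qt hw.pt
  obtain ⟨_, ⟨s, hs, rfl⟩, h1, h2⟩ := P.cn_one hw.pt q hw hw'
  rw [P.le_pr q hw hs] at h1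
  rw [P.le_pr q hw' hs] at h2
  obtain ⟨g₁, hg₁, e₁⟩ := P.move hw hs h1
  obtain ⟨g₂, hg₂, e₂⟩ := P.move hs hw' fun h => h2 (P.perp_symm hs hw' h)
  refine ⟨g₂ * g₁, mul_mem ?_ ?_, by rw [← conj_conj, e₁, e₂]⟩
  · exact (sup_le (NN_le_RR hs) (NN_le_RR hw')) hg₂
  · exact (sup_le (NN_le_RR hw) (NN_le_RR hs)) hg₁

/-! ### The group `W_a` -/

/-- `W_a` -/
def WW (Z U : Fin 2 → Subgroup G) (a : Subgroup G) : Subgroup G := sSup {l | LnOn Z U a l}

omit P in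
theorem le_WW {a l : Subgroup G} (h : LnOn Z U a l) : l ≤ WW Z U a := le_sSup h

theorem WW_comm {a : Subgroup G} (ha : IsPt Z a) : WW Z U a ≤ centralizer (WW Z U a : Set G) := by
  refine sSup_le fun l hl => comm_symm (sSup_le fun l' hl' => ?_)
  obtain ⟨i, k, rfl⟩ := ha
  have h1 : LnOn Z U (Z i) (MulAut.conj k⁻¹ • l) := by
    have := LnOn.conj hl k⁻¹
    rwa [inv_conj_conj] at this
  have h2 : LnOn Z U (Z i) (MulAut.conj k⁻¹ • l') := by
    have := LnOn.conj hl' k⁻¹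
    rwa [inv_conj_conj] at this
  have h3 := conj_le_centralizer (g := k) (P.ab i _ _ h2 h1)
  rwa [conj_inv_conj, conj_inv_conj] at h3

theorem WW_le_QQ {a : Subgroup G} : WW Z U a ≤ QQ a := by
  refine sSup_le ?_
  rintro _ ⟨i, k, rfl, rfl⟩
  rw [QQ_conj]
  exact conj_le_iff.2 (P.UQ' i)

theorem WW_cent_NN {a : Subgroup G} (ha : IsPt Z a) : WW Z U a ≤ centralizer (NN Z a : Set G) :=
  P.WW_le_QQ.trans (P.QQ_le_cent ha)

theorem a_le_WW {a : Subgroup G} (ha : IsPt Z a) : a ≤ WW Z U a := by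
  obtain ⟨i, k, rfl⟩ := ha
  exact (conj_le_iff.2 (P.ZU i)).trans (le_WW ⟨i, k, rfl, rfl⟩)

/-- `E` : the lines on `a` conjugate to `k U_0` in `H_a ∩ H_u` -/
def EE (U : Fin 2 → Subgroup G) (i : Fin 2) (a u : Subgroup G) (k : G) : Subgroup G :=
  sSup {l | ∃ d : G, MulAut.conj d • a = a ∧ MulAut.conj d • u = u ∧ l = MulAut.conj d • (MulAut.conj k • U i)}

omit P in
theorem conj_EE {i : Fin 2} {a u : Subgroup G} {k t : G} (ht : MulAut.conj t • a = a) (ht' : MulAut.conj t • u = u) {x : G}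
    (hx : x ∈ EE U i a u k) : t * x * t⁻¹ ∈ EE U i a u k := by
  have h1 : EE U i a u k ≤ MulAut.conj t⁻¹ • EE U i a u k := by
    refine sSup_le ?_
    rintro _ ⟨d, h1, h2, rfl⟩
    have h3 : MulAut.conj (t * d) • (MulAut.conj k • U i) ≤ EE U i a u k :=
      le_sSup ⟨t * d, by rw [← conj_conj, h1, ht], by rw [← conj_conj, h2, ht'], rfl⟩
    have h4 := conj_le_iff (g := t⁻¹) |>.2 h3
    rwa [← conj_conj t d, inv_conj_conj] at h4
  have h2 := h1 hx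
  rw [mem_conj, inv_inv] at h2
  exact h2

/-- `kU_i ≤ N_u` for `u = k Z_{i+1}` -/
theorem U_le_NN (i : Fin 2) (k : G) : MulAut.conj k • U i ≤ NN Z (MulAut.conj k • Z (i + 1)) := by
  have := P.line_le_NN (i + 1) k
  rwa [f2] at this

theorem U_le_cent (i : Fin 2) (k : G) : MulAut.conj k • U i ≤ centralizer (NN Z (MulAut.conj k • Z i) : Set G) :=
  P.line_le_cent0 i k

/-- the points of `kU_i` are adjacent to `k Z_{i+1}` -/
theorem adj_U {i : Fin 2} {k : G} {y : Subgroup G} (hy : IsPt Z y) (hle : y ≤ MulAut.conj k • U i) :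
    Adj Z (MulAut.conj k • Z (i + 1)) y := by
  rw [← f2 i] at hle
  exact P.adj_of_le hy hle

theorem ptsU {i : Fin 2} {k x : G} (hx : x ∈ MulAut.conj k • U i) (hx1 : x ≠ 1) :
    ∃ w, IsPt Z w ∧ w ≤ MulAut.conj k • U i ∧ x ∈ w := P.pts0 hx hx1

theorem exists_other0 (i : Fin 2) (k : G) {y : Subgroup G} (hy : IsPt Z y) :
    ∃ y', IsPt Z y' ∧ y' ≤ MulAut.conj k • U i ∧ y' ≠ y := by
  have := P.exists_other (i + 1) k hy
  rwa [f2] at this

/-- **`C_{N_u}(N_a) ≤ E u`** (#18644 (4)(a)) -/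
theorem cent_EE {i : Fin 2} {a u : Subgroup G} {k : G} (hk : a = MulAut.conj k • Z i) (hu : u = MulAut.conj k • Z (i + 1)) {n : G}
    (hn : n ∈ NN Z u) (hc : n ∈ centralizer (NN Z a : Set G)) : ∃ e ∈ EE U i a u k, e⁻¹ * n ∈ u := by
  have hau : Adj Z a u := ⟨i, k, hk, hu⟩
  have hua := P.adj_symm hau
  obtain ⟨M, _, π, q⟩ := P.qt hua.pt
  have g := P.geoO hua.pt q
  have hEN : EE U i a u k ≤ NN Z u := by
    refine sSup_le ?_
    rintro _ ⟨d, h1, h2, rfl⟩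
    have h3 := conj_le_iff (g := d) |>.2 (P.U_le_NN i k)
    rwa [← hu, ← NN_conj, h2] at h3
  have hA := g.inv (x := q.im a) ⟨a, hua, rfl⟩ (A := q.im (EE U i a u k)) (by
    rintro _ ⟨w, hw, rfl⟩ hp t ht _ ⟨e, he, heN, rfl⟩
    obtain ⟨τ, hτ, h1⟩ := (P.mem_Ta q hw).1 ht
    rw [P.le_pr q hua hw] at hp
    have h2 : a ≤ centralizer (NN Z w : Set G) := P.perp_symm hua hw hp
    have h3 : MulAut.conj τ • a = a := norm_conj (centralizer_le_normalizer _ (comm_symm h2 hτ))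
    rw [h1 e heN]
    have h4 := conj_EE (k := k) h3 (P.conj_pt hw hτ) he
    exact q.π_mem_im h4 (hEN h4))
  have hU : MulAut.conj k • U i ≤ EE U i a u k :=
    le_sSup ⟨1, by rw [map_one, one_smul], by rw [map_one, one_smul], by rw [map_one, one_smul]⟩
  rcases hA with hA | hA
  · exfalso
    obtain ⟨y', hy', hle, hne⟩ := P.exists_other0 i k (y := a) hau.pt
    obtain ⟨y, hy, hy1⟩ := P.exists_ne hy'
    have hay' : Adj Z u y' := by
      rw [hu]
      exact P.adj_U hy' hle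
    exact hne (P.im_inj q hay' hua hy hy1 (hA (q.π_mem_im (hU (hle hy)) (hay'.le_NN hy))))
  · obtain ⟨e, he, heN, h1⟩ := hA ((P.mem_pr q hua hn).2 hc)
    exact ⟨e, he, (q.eq_iff heN hn).1 h1⟩

/-- **`[W_a, N_u] ≤ a u`** (#18644 (5)) -/
theorem comm_WW {a u : Subgroup G} (hau : Adj Z a u) {w n : G} (hw : w ∈ WW Z U a) (hn : n ∈ NN Z u) :
    w * n * w⁻¹ * n⁻¹ ∈ a ⊔ u := by
  obtain ⟨i, k, hk, hku⟩ := hau
  have hau : Adj Z a u := ⟨i, k, hk, hku⟩
  have hua := P.adj_symm hau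
  obtain ⟨M, _, π, q⟩ := P.qt hua.pt
  have g := P.geoO hua.pt q
  have hwa : w ∈ centralizer (a : Set G) := (centralizer_le (P.a_le_WW hau.pt)) (P.WW_comm hau.pt hw)
  have hwu : w ∈ centralizer (u : Set G) := (centralizer_le hau.le_NN) (P.WW_cent_NN hau.pt hw)
  have hwu' : MulAut.conj w • u = u := norm_conj (centralizer_le_normalizer _ hwu)
  obtain ⟨φ, hφ⟩ := P.act_ex q hwu'
  have hwN : ∀ n ∈ NN Z u, w * n * w⁻¹ ∈ NN Z u := by
    intro n hn
    have h1 : MulAut.conj w • NN Z u = NN Z u := by rw [← NN_conj, hwu']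
    rw [← h1]
    exact mem_conj_self hn
  have hEW : EE U i a u k ≤ WW Z U a := by
    refine sSup_le ?_
    rintro _ ⟨d, h1, h2, rfl⟩
    refine le_WW ⟨i, d * k, ?_, (conj_conj _ _ _)⟩
    rw [← conj_conj, ← hk, h1]
  have key := g.tv (x := q.im a) ⟨a, hua, rfl⟩ (φ := φ) (by
    rintro _ ⟨s, hs, rfl⟩ hr t ht
    obtain ⟨τ, hτ, h1⟩ := (P.mem_Ta q hs).1 ht
    rw [P.mp_im q hs hwu' hφ] at hr
    have h2 : MulAut.conj w • s = s := P.im_eq q (P.adj_conj_of q hs hwu') hs hr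
    have h3 : w * τ * w⁻¹ ∈ NN Z s := by
      have := mem_conj_self (k := w) hτ
      rwa [← NN_conj, h2] at this
    obtain ⟨φ', hφ'⟩ := P.act_ex q (P.conj_pt hs h3)
    refine ⟨φ', (P.mem_Ta q hs).2 ⟨_, h3, hφ'⟩, fun m => ?_⟩
    obtain ⟨n, hn, rfl⟩ := q.surj m
    have h4 : τ * n * τ⁻¹ ∈ NN Z u := by
      have := mem_conj_self (k := τ) hn
      rwa [P.conj_NN hs hτ] at this
    rw [h1 n hn, hφ n hn, hφ' _ (hwN n hn), hφ _ h4]
    congr 1
    group) (by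
    rintro _ ⟨s, hs, rfl⟩ t ht t' ht' m hm he m'
    obtain ⟨τ, hτ, h1⟩ := (P.mem_Ta q hs).1 ht
    obtain ⟨τ', hτ', h1'⟩ := (P.mem_Ta q hs).1 ht'
    obtain ⟨n, hn, rfl⟩ := q.surj m
    obtain ⟨n', hn', rfl⟩ := q.surj m'
    rw [P.mem_pr q hs hn] at hm
    have h4 : ∀ τ ∈ NN Z s, ∀ n ∈ NN Z u, τ * n * τ⁻¹ ∈ NN Z u := by
      intro τ hτ n hn
      have := mem_conj_self (k := τ) hn
      rwa [P.conj_NN hs hτ] at this
    rw [h1 n hn, h1' n hn, q.eq_iff (h4 τ hτ n hn) (h4 τ' hτ' n hn)] at he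
    have hzz : τ⁻¹ * τ' ∈ NN Z s := mul_mem (inv_mem hτ) hτ'
    have h5 : τ⁻¹ * τ' ∈ centralizer (NN Z u : Set G) := by
      refine P.lift' hs hn hm hzz ?_
      -- `n (t n t⁻¹)⁻¹ ∈ u`
      set t₀ : G := τ⁻¹ * τ' with ht₀
      have e1 : (τ * n * τ⁻¹)⁻¹ * (τ' * n * τ'⁻¹) = τ * (n⁻¹ * (t₀ * n * t₀⁻¹)) * τ⁻¹ := by
        rw [ht₀]; group
      rw [e1] at he
      have h6 : n⁻¹ * (t₀ * n * t₀⁻¹) ∈ u := by
        have h7 := mem_conj_self (k := τ⁻¹) he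
        rw [conj_inv_eq (P.conj_pt hs hτ)] at h7
        have e2 : τ⁻¹ * (τ * (n⁻¹ * (t₀ * n * t₀⁻¹)) * τ⁻¹) * τ⁻¹⁻¹ = n⁻¹ * (t₀ * n * t₀⁻¹) := by group
        rwa [e2] at h7
      have e3 : n * t₀ * n⁻¹ * t₀⁻¹ = n * (n⁻¹ * (t₀ * n * t₀⁻¹))⁻¹ * n⁻¹ := by group
      rw [e3, ← P.aN hua.pt (inv_mem h6) hn, mul_inv_cancel_right]
      exact inv_mem h6
    rw [h1 n' hn', h1' n' hn']
    congr 1
    have h6 := mem_centralizer_iff.1 h5 n' hn'
    have e4 : τ' * n' * τ'⁻¹ = τ * ((τ⁻¹ * τ') * n' * (τ⁻¹ * τ')⁻¹) * τ⁻¹ := by group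
    rw [e4, ← h6, mul_inv_cancel_right]) (by
    intro m hm
    obtain ⟨n, hn, rfl⟩ := q.surj m
    rw [P.mem_pr q hua hn] at hm
    obtain ⟨e, he, hc⟩ := P.cent_EE hk hku hn hm
    rw [hφ n hn]
    congr 1
    have h1 : e * w = w * e := mem_centralizer_iff.1 (P.WW_comm hau.pt hw) e (hEW he)
    have h2 : e⁻¹ * n * w = w * (e⁻¹ * n) := mem_centralizer_iff.1 hwu _ hc
    have h3 : w * n = n * w := by
      calc w * n = w * e * (e⁻¹ * n) := by group
        _ = e * w * (e⁻¹ * n) := by rw [h1]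
        _ = e * (e⁻¹ * n * w) := by rw [h2]; group
        _ = n * w := by group
    rw [h3, mul_inv_cancel_right])
  have h1 := key (π n)
  rw [hφ n hn] at h1
  have h2 : π (w * n * w⁻¹) - π n = π (w * n * w⁻¹ * n⁻¹) := by
    rw [q.mul _ (hwN n hn) _ (inv_mem hn), q.inv hn]; abel
  rw [h2] at h1
  obtain ⟨α, hα, hαN, e⟩ := h1
  have h3 : α⁻¹ * (w * n * w⁻¹ * n⁻¹) ∈ u := (q.eq_iff hαN (mul_mem (hwN n hn) (inv_mem hn))).1 e
  have h4 : w * n * w⁻¹ * n⁻¹ = α * (α⁻¹ * (w * n * w⁻¹ * n⁻¹)) := by group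
  rw [h4]
  exact mul_mem (mem_sup_left hα) (mem_sup_right h3)

/-- **`N_a ∩ N_u ≤ a u`** -/
theorem inter {a u : Subgroup G} (hau : Adj Z a u) : NN Z a ⊓ NN Z u ≤ a ⊔ u := by
  obtain ⟨i, k, rfl, rfl⟩ := hau
  have h1 : NN Z (Z i) ⊓ NN Z (Z (i + 1)) ≤ Z i ⊔ Z (i + 1) := by
    rcases f01 i with e | e
    · subst e
      exact P.int
    · subst e
      have e : (1 : Fin 2) + 1 = 0 := rfl
      rw [e, inf_comm, sup_comm]
      exact P.int
  rintro n ⟨hn, hn'⟩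
  rw [NN_conj] at hn hn'
  rw [← conj_sup', mem_conj]
  exact h1 ⟨(mem_conj).1 hn, (mem_conj).1 hn'⟩

/-- `R_a` centralises `W_aN_a / aN_a` -/
theorem RR_WW {a : Subgroup G} {r w : G} (hr : r ∈ RR Z a) (hw : w ∈ WW Z U a) :
    w⁻¹ * (r * w * r⁻¹) ∈ a ⊔ NN Z a := by
  have hinv : ∀ r, MulAut.conj r • a = a → ∀ z ∈ a ⊔ NN Z a, r * z * r⁻¹ ∈ a ⊔ NN Z a := by
    intro r hr z hz
    have h1 : MulAut.conj r • (a ⊔ NN Z a) = a ⊔ NN Z a := by rw [conj_sup', ← NN_conj, hr]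
    rw [← h1]
    exact mem_conj_self hz
  let K : Subgroup G :=
    { carrier := {r | MulAut.conj r • a = a ∧ ∀ w ∈ WW Z U a, w⁻¹ * (r * w * r⁻¹) ∈ a ⊔ NN Z a}
      one_mem' := ⟨by rw [map_one, one_smul], fun w _ => by
        have : w⁻¹ * (1 * w * 1⁻¹) = 1 := by group
        rw [this]; exact one_mem _⟩
      mul_mem' := by
        rintro x y ⟨x1, x2⟩ ⟨y1, y2⟩
        refine ⟨by rw [← conj_conj, y1, x1], fun w hw => ?_⟩
        have e : w⁻¹ * (x * y * w * (x * y)⁻¹) = (w⁻¹ * (x * w * x⁻¹)) * (x * (w⁻¹ * (y * w * y⁻¹)) * x⁻¹) := by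
          group
        rw [e]
        exact mul_mem (x2 w hw) (hinv x x1 _ (y2 w hw))
      inv_mem' := by
        rintro x ⟨x1, x2⟩
        have x1' := conj_inv_eq x1
        refine ⟨x1', fun w hw => ?_⟩
        have e : w⁻¹ * (x⁻¹ * w * x⁻¹⁻¹) = x⁻¹ * (w⁻¹ * (x * w * x⁻¹))⁻¹ * x⁻¹⁻¹ := by group
        rw [e]
        exact hinv _ x1' _ (inv_mem (x2 w hw)) }
  have h1 : RR Z a ≤ K := by
    refine sSup_le ?_
    rintro _ ⟨p, hp, rfl⟩ t ht
    refine ⟨P.conj_pt hp ht, fun w hw => ?_⟩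
    have h2 := P.comm_WW hp (inv_mem hw) ht
    have e : w⁻¹ * (t * w * t⁻¹) = w⁻¹ * t * w⁻¹⁻¹ * t⁻¹ := by group
    rw [e]
    exact (sup_le_sup_left hp.le_NN a) h2
  exact (h1 hr).2 w hw

/-- `H_u ∩ R_a` normalises `kU_0` (#18644 (6)) -/
theorem norm_U {i : Fin 2} {a u : Subgroup G} {k : G} (hk : a = MulAut.conj k • Z i) (hku : u = MulAut.conj k • Z (i + 1)) {d : G}
    (hd : d ∈ RR Z a) (hdu : MulAut.conj d • u = u) :
    MulAut.conj d • (MulAut.conj k • U i) = MulAut.conj k • U i := by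
  have hau : Adj Z a u := ⟨i, k, hk, hku⟩
  have hUW : MulAut.conj k • U i ≤ WW Z U a := le_WW ⟨i, k, hk, rfl⟩
  have haU : a ≤ MulAut.conj k • U i := by
    rw [hk]
    exact conj_le_iff.2 (P.ZU i)
  have hUN : MulAut.conj k • U i ≤ NN Z u := by rw [hku]; exact P.U_le_NN i k
  refine Subgroup.eq_of_le_of_card_ge ?_ ?_
  · intro x hx
    rw [mem_conj] at hx
    set v : G := d⁻¹ * x * d with hv
    have hxv : x = d * v * d⁻¹ := by rw [hv]; group
    by_cases hv1 : v = 1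
    · rw [hxv, hv1, mul_one, mul_inv_cancel]; exact one_mem _
    obtain ⟨p, hp, hple, hvp⟩ := P.ptsU hx hv1
    have h1 := P.RR_WW hd (hUW hx)
    obtain ⟨α, hα, n, hn, e⟩ := mem_sup_of_comm (P.self' hau.pt) h1
    have hxN : d * v * d⁻¹ ∈ NN Z u := by
      have := mem_conj_self (k := d) (hUN hx)
      rwa [← NN_conj, hdu] at this
    have hnu : n ∈ NN Z u := by
      have e1 : n = α⁻¹ * (v⁻¹ * (d * v * d⁻¹)) := by rw [e]; group
      rw [e1]
      exact mul_mem (inv_mem (hUN (haU hα))) (mul_mem (inv_mem (hUN hx)) hxN)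
    obtain ⟨α', hα', υ, hυ, e2⟩ := P.mem_au hau (P.inter hau (mem_inf.2 ⟨hn, hnu⟩))
    have e3 : d * v * d⁻¹ = v * α * α' * υ := by
      have : d * v * d⁻¹ = v * (v⁻¹ * (d * v * d⁻¹)) := by group
      rw [this, e, e2]; group
    have hv' : v * α * α' ∈ MulAut.conj k • U i := mul_mem (mul_mem hx (haU hα)) (haU hα')
    have hadj : Adj Z u p := by
      rw [hku]
      exact P.adj_U hp hple
    have hadj' : Adj Z u (MulAut.conj d • p) := by
      have := hadj.conj d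
      rwa [hdu] at this
    have hxp : d * v * d⁻¹ ∈ MulAut.conj d • p := mem_conj_self hvp
    have hx1 : d * v * d⁻¹ ≠ 1 := fun e => hv1 (conj_eq_one_iff.1 e)
    by_cases h0 : v * α * α' = 1
    · exfalso
      rw [h0, one_mul] at e3
      have h2 : MulAut.conj d • p = u := P.ti _ _ (P.adj_pt hadj') hadj'.pt _ hxp (e3 ▸ hυ) hx1
      exact P.adj_ne hadj' h2.symm
    · obtain ⟨p', hp', hple', hvp'⟩ := P.ptsU hv' h0
      have hadj'' : Adj Z u p' := by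
        rw [hku]
        exact P.adj_U hp' hple'
      have h2 : d * v * d⁻¹ ∈ u ⊔ p' := by
        rw [e3]
        exact mul_mem (mem_sup_right hvp') (mem_sup_left hυ)
      rcases P.fus' hadj'' (P.adj_pt hadj') hxp h2 hx1 with h3 | h3
      · exact absurd h3.symm (P.adj_ne hadj')
      · rw [hxv]
        exact hple' (h3 ▸ hxp)
  · exact (Nat.card_congr (Subgroup.equivSMul (MulAut.conj d) (MulAut.conj k • U i : Subgroup G)).toEquiv).le

/-- `R_a` normalises the lines on `a` -/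
theorem RR_norm {i : Fin 2} {a : Subgroup G} {k : G} (hk : a = MulAut.conj k • Z i) {r : G} (hr : r ∈ RR Z a) :
    MulAut.conj r • (MulAut.conj k • U i) = MulAut.conj k • U i := by
  have h1 : RR Z a ≤ normalizer ((MulAut.conj k • U i : Subgroup G) : Set G) := by
    refine sSup_le ?_
    rintro _ ⟨w, hw, rfl⟩ t ht
    obtain ⟨p, hp, hple, hpw⟩ := P.perp_line hw hk
    obtain ⟨g, g1, g2, g3, g4⟩ := P.tr1 hp hple
    rw [← hk] at g2
    have hga := conj_inv_eq g2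
    have h2 : g⁻¹ * t * g ∈ RR Z a := by
      have h3 := mem_conj_self (k := g⁻¹) (NN_le_RR hw ht)
      rwa [conj_RR, hga, inv_inv] at h3
    have htp : MulAut.conj t • p = p := norm_conj (centralizer_le_normalizer _ (comm_symm hpw ht))
    have h3 : MulAut.conj (g⁻¹ * t * g) • (MulAut.conj k • Z (i + 1)) = MulAut.conj k • Z (i + 1) := by
      rw [← conj_conj (g⁻¹ * t) g, g1, ← conj_conj, htp, ← g1, inv_conj_conj]
    have h4 := P.norm_U hk rfl h2 h3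
    rw [← conj_conj (g⁻¹ * t) g, g4, ← conj_conj] at h4
    have h5 := congrArg (fun A => MulAut.conj g • A) h4
    simp only [conj_inv_conj] at h5
    rw [g4] at h5
    exact conj_norm h5
  exact norm_conj (h1 hr)

/-- the lines on `a` lie in `N_u` for ALL `u ~ a` -/
theorem star {a u l p : Subgroup G} (hl : LnOn Z U a l) (hau : Adj Z a u) (hp : IsPt Z p) (hple : p ≤ l) :
    Adj Z u p := by
  obtain ⟨i, k, hk, rfl⟩ := hl
  have hu' : Adj Z a (MulAut.conj k • Z (i + 1)) := ⟨i, k, hk, rfl⟩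
  obtain ⟨r, hr, e⟩ := P.RR_trans hu' hau
  have h1 := P.RR_norm hk (inv_mem hr)
  have h2 : MulAut.conj r⁻¹ • p ≤ MulAut.conj k • U i := by
    have := conj_le_iff (g := r⁻¹) |>.2 hple
    rwa [h1] at this
  have h3 := (P.adj_U (hp.conj r⁻¹) h2).conj r
  rwa [conj_inv_conj, e] at h3

/-- perpendicular points of `N_u` are on a line -/
theorem common_line {u w w' : Subgroup G} (hw : Adj Z u w) (hw' : Adj Z u w') (hne : w ≠ w')
    (hp : w' ≤ centralizer (NN Z w : Set G)) : ∃ l, LnOn Z U w l ∧ w' ≤ l := by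
  obtain ⟨i, k', hk, hkw⟩ := hw
  have hw : Adj Z u w := ⟨i, k', hk, hkw⟩
  obtain ⟨y, hy, hyle, hyne⟩ := P.exists_other i k' (y := w) (P.adj_pt hw)
  have hyu : Adj Z u y := by
    rw [hk]
    exact P.adj_of_le hy hyle
  obtain ⟨M, _, π, q⟩ := P.qt hw.pt
  have g := P.geoO hw.pt q
  obtain ⟨_, ⟨p, hpu, rfl⟩, h1, h2, h3⟩ := g.two (x := q.im w) ⟨w, hw, rfl⟩ (y := q.im y) ⟨y, hyu, rfl⟩
    (y' := q.im w') ⟨w', hw', rfl⟩ (fun e => hyne (P.im_eq q hw hyu e).symm) (fun e => hne (P.im_eq q hw hw' e))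
  rw [P.le_pr q hw hpu] at h1
  rw [P.le_pr q hyu hpu] at h2
  rw [P.le_pr q hw' hpu] at h3
  obtain ⟨g₁, hg₁, e₁⟩ := P.move hyu hpu h2
  obtain ⟨g₂, hg₂, e₂⟩ := P.move hpu hw' fun h => h3 (P.perp_symm hpu hw' h)
  have hyw : w ≤ centralizer (NN Z y : Set G) := by
    refine P.perp_symm hw hyu ?_
    rw [hkw]
    exact hyle.trans (P.line_le_cent i k')
  have hc1 : NN Z y ⊔ NN Z p ≤ centralizer (w : Set G) :=
    sup_le (comm_symm hyw) (comm_symm (P.perp_symm hw hpu h1))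
  have hc2 : NN Z p ⊔ NN Z w' ≤ centralizer (w : Set G) :=
    sup_le (comm_symm (P.perp_symm hw hpu h1)) (comm_symm (P.perp_symm hw hw' hp))
  have hd1 : NN Z y ⊔ NN Z p ≤ centralizer (u : Set G) := sup_le (P.NN_le_cent hyu) (P.NN_le_cent hpu)
  have hd2 : NN Z p ⊔ NN Z w' ≤ centralizer (u : Set G) := sup_le (P.NN_le_cent hpu) (P.NN_le_cent hw')
  have hgw : MulAut.conj (g₂ * g₁) • w = w := by
    rw [← conj_conj, norm_conj (centralizer_le_normalizer _ (hc1 hg₁)),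
      norm_conj (centralizer_le_normalizer _ (hc2 hg₂))]
  have hgy : MulAut.conj (g₂ * g₁) • y = w' := by rw [← conj_conj, e₁, e₂]
  refine ⟨MulAut.conj (g₂ * g₁ * k') • U (i + 1), ⟨i + 1, g₂ * g₁ * k', ?_, rfl⟩, ?_⟩
  · rw [← conj_conj, ← hkw, hgw]
  · rw [← conj_conj, ← hgy]
    exact conj_le_iff.2 hyle

/-- all neighbours of `u` are neighbours of `u'` -/
theorem nbrs {a u u' w : Subgroup G} (hau : Adj Z a u) (hau' : Adj Z a u') (hw : Adj Z u w) : Adj Z u' w := by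
  have step : ∀ w w', Adj Z u w → Adj Z u' w → Adj Z u w' → w' ≤ centralizer (NN Z w : Set G) → Adj Z u' w' := by
    intro w w' h1 h2 h3 h4
    by_cases hne : w = w'
    · rwa [← hne]
    obtain ⟨l, hl, hle⟩ := P.common_line h1 h3 hne h4
    exact P.star hl (P.adj_symm h2) (P.adj_pt h3) hle
  obtain ⟨i, k, hk, hka⟩ := P.adj_symm hau
  obtain ⟨p, hp, hple, hpw⟩ := P.perp_line hw hk
  have hup : Adj Z u p := by rw [hk]; exact P.adj_of_le hp hple
  have hu'p : Adj Z u' p := by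
    have hl : LnOn Z U a (MulAut.conj k • U (i + 1)) := ⟨i + 1, k, hka, rfl⟩
    exact P.star hl hau' hp hple
  exact step p w hup hu'p hw (P.perp_symm hw hup hpw)

/-- **The transvection case is impossible.** -/
theorem false : False := by
  have h01 : Adj Z (Z 0) (Z 1) := adj_Z 0
  have key : ∀ u u', Adj Z (Z 0) u → Adj Z (Z 0) u' → NN Z u ≤ NN Z u' := fun u u' h h' =>
    sSup_le fun w hw => (P.nbrs h h' hw).le_NN
  have h1 : HH (Z 0) ≤ normalizer (NN Z (Z 1) : Set G) := by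
    intro g hg
    have h2 : Adj Z (Z 0) (MulAut.conj g • Z 1) := by
      have := h01.conj g
      rwa [norm_conj hg] at this
    apply conj_norm
    rw [← NN_conj]
    exact le_antisymm (key _ _ h2 h01) (key _ _ h01 h2)
  have h2 : IsPGroup 2 (NN Z (Z 1)) := fun x => ⟨1, Subtype.ext (by
    have := P.sq_one (P.adj_pt h01) x.2
    change (x : G) ^ 2 ^ 1 = 1
    rw [pow_one, pow_two, this])⟩
  have h3 := P.nonLoc (NN Z (Z 1)) h2 h1 (HH_le_NN (Z 1))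
  have h4 : Z 0 ≤ NN Z (Z 1) := (P.adj_symm h01).le_NN
  rw [h3] at h4
  exact P.ne 0 (le_bot_iff.1 h4)

end TQL

end Cfsg.Agent.Omega.OM.TV

end

-- merged: Cfsg.Agent.Mrg.Omega.OM.TV.Plug
section

/-!
# Two types of points: `N_0 ∩ N_1 ≤ Z_0Z_1` implies `[N_0, N_1] = 1` (helper918, TEXT W2 #24006 (6))

* `TIn Z U B` : the inputs over helper683's frame `PT.PP`, `PT.XF`, `PT.TIp`;
* `TIn.card_eq` : `[N_0, N_1] ≠ 1` implies `|Z_0| = |Z_1|`;
* `TIn.toTQL`, `TIn.com`.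
-/

set_option autoImplicit false
set_option linter.unusedSectionVars false

namespace Cfsg.Agent.Omega.OM.TV

open Subgroup Cfsg Cfsg.Agent.ZN Cfsg.Agent.Omega.MinPar
open Cfsg.Agent.Omega.NoFF.Basic (conj_conj mem_conj conj_le_iff conj_le_centralizer comm_symm comm_mono)
open Cfsg.Agent.Omega.NOThreeL.Pair (conj_eq_of_mem)
open Cfsg.Agent.Omega.OM.PG (HH QQ HH_conj QQ_conj conj_inv_conj inv_conj_conj)
open Cfsg.Agent.Omega.NO3S.EThree (conj_sup' conj_centralizer relIndex_conj mem_sup_of_comm norm_conj conj_norm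
  conj_normalizer mem_conj_self)
open scoped Pointwise

universe u

variable {G : Type u} [Group G]

/-- The inputs of (6). `B` : a 2-group which normalises `Z 0` and `Z 1`, `C_{N_i}(B) ≤ Z_0Z_1`. -/
structure TIn (Z U : Fin 2 → Subgroup G) (B : Subgroup G) : Prop where
  P : PT.PP Z U
  X : PT.XF Z (PT.XW Z U)
  ti : PT.TIp Z
  fus : ∀ a, PT.IsPt Z a → ∀ x ∈ a, x ∈ Z 0 ⊔ Z 1 → x ≠ 1 → a = Z 0 ∨ a = Z 1
  tra : ∀ i, ∀ x ∈ U i, x ≠ 1 → ∃ l : G, x ∈ MulAut.conj l • Z i ∧ MulAut.conj l • Z (i + 1) = Z (i + 1) ∧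
    MulAut.conj l • U i = U i ∧ MulAut.conj l • U (i + 1) = U (i + 1)
  cardU : ∀ i, Nat.card (U i) = Nat.card (Z i) ^ 2
  core : ∀ i, ∀ J : Subgroup G, J ≤ HH (Z i) → HH (Z i) ≤ normalizer (J : Set G) →
    (∀ y ∈ J, y * y ∈ centralizer (PT.NN Z (Z i) : Set G)) → J ≤ centralizer (PT.NN Z (Z i) : Set G)
  B2 : IsPGroup 2 B
  BZ : ∀ i, B ≤ HH (Z i)
  int : PT.NN Z (Z 0) ⊓ PT.NN Z (Z 1) ≤ Z 0 ⊔ Z 1
  Bfix : ∀ i, ∀ n ∈ PT.NN Z (Z i), (∀ b ∈ B, b * n * b⁻¹ = n) → n ∈ Z 0 ⊔ Z 1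

namespace TIn

variable {Z U : Fin 2 → Subgroup G} {B : Subgroup G} (H : TIn Z U B)
include H

theorem ti' {a b : Subgroup G} (ha : PT.IsPt Z a) (hb : PT.IsPt Z b) {x : G} (hx : x ∈ a) (hx' : x ∈ b)
    (hx1 : x ≠ 1) : a = b := by
  by_contra hne
  exact hx1 (PT.ti_one H.ti ha hb hne hx hx')

theorem Z_ne (i : Fin 2) : Z i ≠ Z (i + 1) := by
  intro e
  apply H.P.ne i
  have h1 : IsPGroup 2 (Z i) := by
    rintro ⟨x, hx⟩
    exact ⟨1, by rw [pow_one]; exact Subtype.ext (H.P.sq i x hx)⟩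
  exact H.P.nonLoc' i (Z i) h1 le_rfl (by rw [← e])

theorem adj_ne {a u : Subgroup G} (h : PT.Adj Z a u) : a ≠ u := by
  obtain ⟨i, k, rfl, rfl⟩ := h
  intro e
  apply H.Z_ne i
  have h1 := congrArg (MulAut.conj k⁻¹ • ·) e
  simpa only [inv_conj_conj] using h1

theorem Z_cent (i : Fin 2) : Z (i + 1) ≤ centralizer (Z i : Set G) := by
  have h1 : Z (i + 1) ≤ HH (Z i) := ((PT.adj Z i).le_NN.trans (H.P.N_le_Q i)).trans (MinSimple.VModule.o2_le _)
  have h2 : Z i ≤ HH (Z (i + 1)) := by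
    have h3 := (PT.adj Z i).symm.le_NN.trans ((H.P.N_le_Q (i + 1)).trans (MinSimple.VModule.o2_le _))
    exact h3
  intro x hx
  refine mem_centralizer_iff.2 fun y hy => ?_
  have h3 : x * y * x⁻¹ ∈ Z i := (mem_normalizer_iff.1 (h1 hx) y).1 hy
  have h4 : y * x * y⁻¹ ∈ Z (i + 1) := (mem_normalizer_iff.1 (h2 hy) x).1 hx
  have h5 : y * x * y⁻¹ * x⁻¹ ∈ Z i := by
    have e : y * x * y⁻¹ * x⁻¹ = y * (x * y * x⁻¹)⁻¹ := by group
    rw [e]
    exact mul_mem hy (inv_mem h3)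
  have h6 : y * x * y⁻¹ * x⁻¹ ∈ Z (i + 1) := mul_mem h4 (inv_mem hx)
  have h7 := PT.ti_one H.ti (PT.isPt Z i) (PT.isPt Z (i + 1)) (H.Z_ne i) h5 h6
  rw [mul_inv_eq_one] at h7
  calc y * x = (y * x * y⁻¹) * y := by group
    _ = x * y := by rw [h7]

theorem adj_cent {a u : Subgroup G} (h : PT.Adj Z a u) : u ≤ centralizer (a : Set G) := by
  obtain ⟨i, k, rfl, rfl⟩ := h
  exact conj_le_centralizer (H.Z_cent i)

theorem self (a : Subgroup G) : PT.NN Z a ≤ centralizer (a : Set G) := sSup_le fun _ hu => H.adj_cent hu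

theorem fusZ (i : Fin 2) {w : Subgroup G} (hw : PT.IsPt Z w) {x : G} (hx : x ∈ w) (hx' : x ∈ Z i ⊔ Z (i + 1))
    (hx1 : x ≠ 1) : w = Z i ∨ w = Z (i + 1) := by
  rcases f01 i with h | h
  · subst h
    exact H.fus w hw x hx hx' hx1
  · subst h
    have e : (1 : Fin 2) + 1 = 0 := rfl
    rw [e] at hx' ⊢
    rw [sup_comm] at hx'
    exact (H.fus w hw x hx hx' hx1).symm

theorem fus' {a u w : Subgroup G} (h : PT.Adj Z a u) (hw : PT.IsPt Z w) {x : G} (hx : x ∈ w) (hx' : x ∈ a ⊔ u)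
    (hx1 : x ≠ 1) : w = a ∨ w = u := by
  obtain ⟨i, k, rfl, rfl⟩ := h
  rw [← conj_sup', mem_conj] at hx'
  have h1 : k⁻¹ * x * k ∈ MulAut.conj k⁻¹ • w := by
    rw [mem_conj]
    have : k⁻¹⁻¹ * (k⁻¹ * x * k) * k⁻¹ = x := by group
    rwa [this]
  have h2 : k⁻¹ * x * k ≠ 1 := by
    intro e
    apply hx1
    have : x = k * (k⁻¹ * x * k) * k⁻¹ := by group
    rw [this, e]; group
  rcases H.fusZ i (hw.conj k⁻¹) h1 hx' h2 with h3 | h3
  · left; rw [← h3, conj_inv_conj]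
  · right; rw [← h3, conj_inv_conj]

/-- `[N_i, N_{i+1}] ≤ Z_0Z_1` -/
def Cm (Z : Fin 2 → Subgroup G) (i : Fin 2) : Prop :=
  ∀ n ∈ PT.NN Z (Z i), ∀ t ∈ PT.NN Z (Z (i + 1)), n * t * n⁻¹ * t⁻¹ ∈ Z i ⊔ Z (i + 1)

omit H in
theorem Cm.symm {i : Fin 2} (h : Cm Z i) : Cm Z (i + 1) := by
  intro n hn t ht
  rw [f2] at ht ⊢
  rw [sup_comm]
  have h1 := inv_mem (h t ht n hn)
  have e1 : (t * n * t⁻¹ * n⁻¹)⁻¹ = n * t * n⁻¹ * t⁻¹ := by group
  rwa [e1] at h1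

/-- a point of `N_i`, an element of `N_{i+1}` which centralises some `x ≠ 1` in it -/
theorem cent_of {i : Fin 2} (hc : Cm Z i) {w : Subgroup G} (hw : PT.Adj Z (Z i) w) {t : G}
    (ht : t ∈ PT.NN Z (Z (i + 1))) {x : G} (hx : x ∈ w) (hx1 : x ≠ 1) (h : x * t = t * x) {z : G} (hz : z ∈ w) :
    z * t = t * z := by
  have h1 : MulAut.conj t • w = w := by
    refine H.ti' (hw.pt'.conj t) hw.pt' (x := x) ?_ hx hx1
    rw [mem_conj, mul_assoc, h, inv_mul_cancel_left]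
    exact hx
  have h2 : t * z⁻¹ * t⁻¹ ∈ w := by
    have := mem_conj_self (k := t) (inv_mem hz)
    rwa [h1] at this
  have h3 : z * t * z⁻¹ * t⁻¹ ∈ w := by
    have e : z * t * z⁻¹ * t⁻¹ = z * (t * z⁻¹ * t⁻¹) := by group
    rw [e]
    exact mul_mem hz h2
  by_cases h4 : z * t * z⁻¹ * t⁻¹ = 1
  · rw [mul_inv_eq_one] at h4
    calc z * t = (z * t * z⁻¹) * z := by group
      _ = t * z := by rw [h4]
  · rcases H.fusZ i hw.pt' h3 (hc z (hw.le_NN hz) t ht) h4 with e | e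
    · exact absurd e.symm (H.adj_ne hw)
    · rw [e] at hz
      exact mem_centralizer_iff.1 (H.self _ ht) z hz

theorem ne_one {i : Fin 2} (hc : Cm Z i) {w y : Subgroup G} (hw : PT.Adj Z (Z i) w) (hy : PT.Adj Z (Z (i + 1)) y)
    (h : ¬ w ≤ centralizer (y : Set G)) {x t : G} (hx : x ∈ w) (hx1 : x ≠ 1) (ht : t ∈ y) (ht1 : t ≠ 1) :
    x * t ≠ t * x := by
  intro e
  apply h
  intro z hz
  refine mem_centralizer_iff.2 fun s hs => ?_
  have h1 : z * t = t * z := H.cent_of hc hw (hy.le_NN ht) hx hx1 e hz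
  have hz' : z ∈ PT.NN Z (Z (i + 1 + 1)) := by rw [f2]; exact hw.le_NN hz
  exact H.cent_of hc.symm hy hz' ht ht1 h1.symm hs

theorem part {i : Fin 2} {w y : Subgroup G} (hw : PT.Adj Z (Z i) w) (hy : PT.Adj Z (Z (i + 1)) y)
    {x t : G} (hx : x ∈ w) (ht : t ∈ y) (h : x * t * x⁻¹ * t⁻¹ ∈ Z (i + 1)) : x * t = t * x := by
  by_cases h0 : x * t * x⁻¹ = 1
  · have ht1 : t = 1 := by
      have e : t = x⁻¹ * (x * t * x⁻¹) * x := by group
      rw [e, h0]; group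
    rw [ht1, mul_one, one_mul]
  · have hxH : x ∈ HH (Z (i + 1)) := H.P.QQ_le_HH (PT.adj Z i).symm (H.P.N_le_Q i (hw.le_NN hx))
    have e1 : MulAut.conj x • Z (i + 1) = Z (i + 1) := conj_eq_of_mem hxH
    have h1 : PT.Adj Z (Z (i + 1)) (MulAut.conj x • y) := by
      have := hy.conj x
      rwa [e1] at this
    have h2 : x * t * x⁻¹ ∈ MulAut.conj x • y := mem_conj_self ht
    have h3 : x * t * x⁻¹ ∈ Z (i + 1) ⊔ y := by
      have e : x * t * x⁻¹ = x * t * x⁻¹ * t⁻¹ * t := by group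
      rw [e]
      exact mul_mem (mem_sup_left h) (mem_sup_right ht)
    rcases H.fus' hy h1.pt' h2 h3 h0 with h4 | h4
    · exact absurd h4.symm (H.adj_ne h1)
    · rw [h4] at h2
      have h5 : x * t * x⁻¹ * t⁻¹ ∈ y := mul_mem h2 (inv_mem ht)
      have h6 := PT.ti_one H.ti hy.pt hy.pt' (H.adj_ne hy) h h5
      rw [mul_inv_eq_one] at h6
      calc x * t = (x * t * x⁻¹) * x := by group
        _ = t * x := by rw [h6]

omit H in
theorem card_conj (k : G) (A : Subgroup G) : Nat.card (MulAut.conj k • A : Subgroup G) = Nat.card A :=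
  (Nat.card_congr (Subgroup.equivSMul (MulAut.conj k) A).toEquiv).symm

omit H in
theorem card_adj {i : Fin 2} {w : Subgroup G} (hw : PT.Adj Z (Z i) w) : Nat.card w = Nat.card (Z (i + 1)) := by
  obtain ⟨j, k, e1, rfl⟩ := hw
  rw [card_conj]
  rcases PT.eq_or i j with rfl | rfl
  · rfl
  · rw [f2, e1, card_conj]

variable [Finite G]

theorem card_le {i : Fin 2} (hc : Cm Z i) {w y : Subgroup G} (hw : PT.Adj Z (Z i) w) (hy : PT.Adj Z (Z (i + 1)) y)
    (h : ¬ w ≤ centralizer (y : Set G)) : Nat.card (Z (i + 1)) ≤ Nat.card (Z i) := by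
  obtain ⟨t, ht, ht1⟩ : ∃ t ∈ y, t ≠ 1 := by
    by_contra hcon
    push Not at hcon
    exact H.P.pt_ne hy.pt' ((eq_bot_iff_forall _).2 hcon)
  have key : ∀ x ∈ w, ∃ a ∈ Z i, ∃ b ∈ Z (i + 1), x * t * x⁻¹ * t⁻¹ = a * b := by
    intro x hx
    exact mem_sup_of_comm (fun z hz => H.Z_cent i hz) (hc x (hw.le_NN hx) t (hy.le_NN ht))
  choose! a ha b hb e using key
  rw [← card_adj hw]
  refine Nat.card_le_card_of_injective (fun x : w => (⟨a x, ha x x.2⟩ : Z i)) ?_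
  intro x x' hxx
  have h1 : a x = a x' := congrArg Subtype.val hxx
  have hw' : (x' : G)⁻¹ * x ∈ w := mul_mem (inv_mem x'.2) x.2
  have hbb : b x * (b x')⁻¹ ∈ Z (i + 1) := mul_mem (hb x x.2) (inv_mem (hb x' x'.2))
  have h2 : (x' : G)⁻¹ * x * t * ((x' : G)⁻¹ * x)⁻¹ * t⁻¹ = b x * (b x')⁻¹ := by
    have e1 : (x' : G)⁻¹ * x * t * ((x' : G)⁻¹ * x)⁻¹ * t⁻¹ =
        (x' : G)⁻¹ * ((x * t * (x : G)⁻¹ * t⁻¹) * (x' * t * (x' : G)⁻¹ * t⁻¹)⁻¹) * x' := by group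
    rw [e1, e x x.2, e x' x'.2, h1]
    have e2 : a x' * b x * (a x' * b x')⁻¹ = b x * (b x')⁻¹ := by
      have c1 := mem_centralizer_iff.1 (H.Z_cent i hbb) (a x') (ha x' x'.2)
      calc a x' * b x * (a x' * b x')⁻¹ = (a x' * (b x * (b x')⁻¹)) * (a x')⁻¹ := by group
        _ = b x * (b x')⁻¹ := by rw [c1]; group
    rw [e2]
    have c2 : (b x * (b x')⁻¹) * x' = x' * (b x * (b x')⁻¹) :=
      (mem_centralizer_iff.1 (H.P.NN_comm hw.pt ((PT.adj Z i).le_NN hbb)) (x' : G) (hw.le_NN x'.2)).symm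
    rw [mul_assoc, c2]; group
  by_contra hne
  have h3 : (x' : G)⁻¹ * x ≠ 1 := fun e0 => hne (Subtype.ext (inv_mul_eq_one.1 e0).symm)
  exact H.ne_one hc hw hy h hw' h3 ht ht1 (H.part hw hy hw' ht (by rw [h2]; exact hbb))

/-- `[N_0, N_1] ≠ 1` implies `|Z_0| = |Z_1|` -/
theorem card_eq (hc : Cm Z 0) (nc : ¬ PT.NN Z (Z 0) ≤ centralizer (PT.NN Z (Z 1) : Set G)) :
    Nat.card (Z 1) = Nat.card (Z 0) := by
  obtain ⟨w, hw, y, hy, h⟩ : ∃ w, PT.Adj Z (Z 0) w ∧ ∃ y, PT.Adj Z (Z 1) y ∧ ¬ w ≤ centralizer (y : Set G) := by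
    by_contra hcon
    push Not at hcon
    apply nc
    refine sSup_le fun w hw => ?_
    rw [le_centralizer_iff]
    exact sSup_le fun y hy => le_centralizer_iff.1 (hcon w hw y hy)
  have e0 : (0 : Fin 2) + 1 = 1 := rfl
  have e1 : (1 : Fin 2) + 1 = 0 := rfl
  have hc' : Cm Z 1 := hc.symm
  have hy' : PT.Adj Z (Z (0 + 1)) y := by rw [e0]; exact hy
  have hw' : PT.Adj Z (Z (1 + 1)) w := by rw [e1]; exact hw
  have k1 := H.card_le hc hw hy' h
  have k2 := H.card_le hc' hy hw' (fun h' => h (le_centralizer_iff.1 h'))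
  rw [e0] at k1
  rw [e1] at k2
  exact le_antisymm k1 k2

theorem con : Con Z := fun _ _ _ h h' => H.P.con h h'

theorem toTQ0 (hc : Cm Z 0) (nc : ¬ PT.NN Z (Z 0) ≤ centralizer (PT.NN Z (Z 1) : Set G)) : TQ0 Z U := by
  have hcard := H.card_eq hc nc
  have hZ : ∀ i, Nat.card (Z i) = Nat.card (Z 0) := by
    intro i
    rcases f01 i with e | e
    · rw [e]
    · rw [e]; exact hcard
  refine
    { ZU := H.P.ZU
      sq := H.P.sq
      ne := H.P.ne
      tr := ?_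
      NQ := H.P.N_le_Q
      QC := H.P.Q_le_cent
      nonLoc := H.P.nonLoc
      card := hcard
      ti := fun a b ha hb x hx hx' hx1 => H.ti' ha hb hx hx' hx1
      fus := H.fus
      self := fun i => H.self (Z i)
      com := hc
      nc := nc
      pts := ?_
      cardU := fun i => by rw [H.cardU i, hZ i]
      UQ' := fun i => ?_ }
  · intro i y hy hle
    obtain ⟨x, hx, hx1⟩ : ∃ x ∈ y, x ≠ 1 := by
      by_contra hcon
      push Not at hcon
      exact H.P.pt_ne hy ((eq_bot_iff_forall _).2 hcon)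
    obtain ⟨l, h1, h2, h3, h4⟩ := H.tra i x (hle hx) hx1
    exact ⟨l, H.ti' ((PT.isPt Z i).conj l) hy h1 hx hx1, h2, h3, h4⟩
  · intro i x hx hx1
    obtain ⟨l, h1, h2, h3, h4⟩ := H.tra i x hx hx1
    refine ⟨MulAut.conj l • Z i, (PT.isPt Z i).conj l, ?_, h1⟩
    rw [← h3]
    exact conj_le_iff.2 (H.P.ZU i)
  · exact (PT.ln_le_XW (PT.lnOn Z U i)).trans (H.X.XQ _ (PT.isPt Z i))

theorem toTQL (hc : Cm Z 0) (nc : ¬ PT.NN Z (Z 0) ≤ centralizer (PT.NN Z (Z 1) : Set G)) : TQL Z U B where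
  toTQ := (H.toTQ0 hc nc).toTQ H.con
  core := H.core
  B2 := H.B2
  BZ := H.BZ
  int := H.int
  Bfix := H.Bfix
  ab := by
    intro i l l' hl hl'
    have h1 := (NO3S.EThree.ExactA.eab_iff.1 (H.X.eab _ (PT.isPt Z i))).1
    exact (PT.ln_le_XW hl).trans (h1.trans (centralizer_le (PT.ln_le_XW hl')))

theorem cm : Cm Z 0 := by
  intro n hn t ht
  refine H.int (mem_inf.2 ⟨?_, ?_⟩)
  · have h1 : t ∈ normalizer (PT.NN Z (Z 0) : Set G) :=
      PT.PP.HH_le_NN (Z 0) (H.P.QQ_le_HH (PT.adj Z 0) (H.P.N_le_Q 1 ht))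
    have h3 : t * n⁻¹ * t⁻¹ ∈ PT.NN Z (Z 0) := (mem_normalizer_iff.1 h1 _).1 (inv_mem hn)
    have e : n * t * n⁻¹ * t⁻¹ = n * (t * n⁻¹ * t⁻¹) := by group
    rw [e]
    exact mul_mem hn h3
  · have h1 : n ∈ normalizer (PT.NN Z (Z 1) : Set G) :=
      PT.PP.HH_le_NN (Z 1) (H.P.QQ_le_HH (PT.adj Z 1) (H.P.N_le_Q 0 hn))
    exact mul_mem ((mem_normalizer_iff.1 h1 _).1 ht) (inv_mem ht)

/-- **(6)** `N_0 ∩ N_1 ≤ Z_0Z_1` implies `[N_0, N_1] = 1`. -/
theorem com : PT.Com Z (Z 0) (Z 1) := by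
  by_contra nc
  exact (H.toTQL H.cm nc).false

end TIn

end Cfsg.Agent.Omega.OM.TV

end

-- merged: Cfsg.Agent.Mrg.Omega.OM.TV.OfT
section

section


/-!
# TEXT W2 #24006 (6) with `B = T`, a Sylow 2-subgroup of `N_G(Z 0)` and `N_G(Z 1)`; `O₂(H_i / C(N_i)) = 1`

* `core_gen`, `coreP_of`, `coreP` : `CoreP Z i` from a Sylow 2-subgroup `T` of `N_G(Z i)` and `z ≤ N_i`, `[z, T] = 1`,
  `N_i = ⟨z ^ N_G(Z i)⟩`;
* `com_T` : (6) for a Sylow 2-subgroup `T` with `C_{N_i}(T) ≤ Z_0Z_1`.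
-/

set_option autoImplicit false
set_option linter.unusedSectionVars false

namespace Cfsg.Agent.Omega.OM.TV

open Subgroup Cfsg Cfsg.Agent.ZN.ChoiceBase
open Cfsg.Agent.ZN (zc o2)
open Cfsg.Agent.ZN.ChoiceSit (Syl exists_syl syl_conj syl_not_dvd o2_le_syl)
open Cfsg.Agent.Omega.MinPar (NonLoc)
open Cfsg.Agent.Omega.OM.PG (HH QQ)
open scoped Pointwise

universe u

variable {G : Type u} [Group G] [Finite G]

omit [Finite G] in
/-- `|F ⊔ X : F| = |X : F ∩ X|` for `X ≤ N(F)` -/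
theorem relIndex_sup_nor {F X : Subgroup G} (h : X ≤ normalizer (F : Set G)) :
    F.relIndex (F ⊔ X) = F.relIndex X := by
  have hF : F ≤ F ⊔ X := le_sup_left
  have hX : X ≤ F ⊔ X := le_sup_right
  have hn : (F.subgroupOf (F ⊔ X)).Normal := by
    rw [← normalizer_eq_top_iff, eq_top_iff]
    have h1 : F ⊔ X ≤ normalizer (F : Set G) := sup_le Subgroup.le_normalizer h
    rintro ⟨x, hx⟩ -
    rw [mem_normalizer_iff]
    rintro ⟨y, hy⟩
    simp only [mem_subgroupOf]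
    exact mem_normalizer_iff.1 (h1 hx) y
  have h1 := relIndex_sup_left (X.subgroupOf (F ⊔ X)) (F.subgroupOf (F ⊔ X))
  have h2 : F.subgroupOf (F ⊔ X) ⊔ X.subgroupOf (F ⊔ X) = (F ⊔ X).subgroupOf (F ⊔ X) :=
    (subgroupOf_sup hF hX).symm
  rw [h2] at h1
  rwa [relIndex_subgroupOf le_rfl, relIndex_subgroupOf hX] at h1

/-- `O₂(H / C_H(N)) = 1` if `N = ⟨z ^ H⟩`, `z` centralised by a Sylow 2-subgroup `T` of `H`. -/
theorem core_gen {H N T z J : Subgroup G} (hNn : H ≤ normalizer (N : Set G)) (hSylT : Syl T H) (hzN : z ≤ N)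
    (hzT : z ≤ centralizer (T : Set G)) (hgen : ∀ E : Subgroup G, z ≤ E → H ≤ normalizer (E : Set G) → N ≤ E)
    (hJ : J ≤ H) (hn : H ≤ normalizer (J : Set G)) (hsq : ∀ y ∈ J, y * y ∈ centralizer (N : Set G)) :
    J ≤ centralizer (N : Set G) := by
  have : Fact (Nat.Prime 2) := ⟨Nat.prime_two⟩
  set F : Subgroup G := H ⊓ centralizer (N : Set G) with hF
  set M : Subgroup G := F ⊔ J with hM
  have hFH : F ≤ H := inf_le_left
  have hMH : M ≤ H := sup_le hFH hJ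
  have hFn : H ≤ normalizer (F : Set G) := by
    intro x hx
    rw [mem_normalizer_iff_cj, hF, cj_inf, cj_centralizer, cj_eq_of_mem_normalizer (hNn hx),
      cj_eq_of_mem_normalizer (Subgroup.le_normalizer hx)]
  have hMn : H ≤ normalizer (M : Set G) := by
    intro x hx
    rw [mem_normalizer_iff_cj, hM]
    refine (NO3S.EThree.conj_sup' x F J).trans ?_
    exact congrArg₂ (· ⊔ ·) (cj_eq_of_mem_normalizer (hFn hx)) (cj_eq_of_mem_normalizer (hn hx))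
  have hTH : T ≤ H := hSylT.1
  -- `|M : F|` is a power of 2
  have h1 : ∃ n, F.relIndex M = 2 ^ n := by
    rw [hM, relIndex_sup_nor (hJ.trans hFn)]
    have hnor : (F.subgroupOf J).Normal := by
      rw [← normalizer_eq_top_iff, eq_top_iff]
      rintro ⟨x, hx⟩ -
      rw [mem_normalizer_iff]
      rintro ⟨y, hy⟩
      simp only [mem_subgroupOf]
      exact mem_normalizer_iff.1 (hFn (hJ hx)) y
    have h2 : IsPGroup 2 (J ⧸ F.subgroupOf J) := by
      intro x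
      obtain ⟨y, rfl⟩ := QuotientGroup.mk'_surjective _ x
      refine ⟨1, ?_⟩
      rw [← map_pow, pow_one, pow_two, QuotientGroup.mk'_apply, QuotientGroup.eq_one_iff, mem_subgroupOf]
      exact ⟨hJ (y * y).2, hsq y y.2⟩
    obtain ⟨n, hn⟩ := IsPGroup.iff_card.1 h2
    exact ⟨n, by rw [relIndex, index, hn]⟩
  set R₀ : Subgroup G := T ⊓ M with hR₀
  -- `R₀` is Sylow in `M`
  have hSyl : Syl R₀ M := by
    refine ⟨inf_le_right, hSylT.2.1.to_le inf_le_left, fun Q hQ h2 hle => ?_⟩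
    obtain ⟨Q', hQ', hQQ'⟩ := exists_syl h2 (hQ.trans hMH)
    obtain ⟨x, hx, e⟩ := syl_conj hSylT hQ'
    have h1 : Q ≤ cj x R₀ := by
      rw [hR₀, cj_inf, e, cj_eq_of_mem_normalizer (hMn hx)]
      exact le_inf hQQ' hQ
    symm
    exact Subgroup.eq_of_le_of_card_ge hle ((Subgroup.card_le_of_le h1).trans (card_cj _ _).le)
  -- `F ⊔ R₀ = M`
  have h3 : F ⊔ R₀ = M := by
    refine le_antisymm (sup_le le_sup_left inf_le_right) ?_
    rw [← relIndex_eq_one]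
    obtain ⟨n, hn⟩ := h1
    have e1 : (F ⊔ R₀).relIndex M ∣ 2 ^ n := hn ▸ relIndex_dvd_of_le_left _ le_sup_left
    have e2 : (F ⊔ R₀).relIndex M ∣ R₀.relIndex M := relIndex_dvd_of_le_left _ le_sup_right
    obtain ⟨a, -, ha⟩ := (Nat.dvd_prime_pow Nat.prime_two).1 e1
    rcases Nat.eq_zero_or_pos a with rfl | ha0
    · simpa using ha
    · exact absurd ((dvd_pow_self 2 ha0.ne').trans (ha ▸ e2)) (syl_not_dvd hSyl)
  -- Frattini
  have hfr : ∀ x ∈ H, ∃ f ∈ F, ∃ n ∈ H, n ∈ normalizer (R₀ : Set G) ∧ x = f * n := by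
    intro x hx
    have h1 : Syl (cj x R₀) M := by
      refine ⟨?_, isPGroup_cj x hSyl.2.1, fun Q hQ h2 hle => ?_⟩
      · have := cj_mono x hSyl.1
        rwa [cj_eq_of_mem_normalizer (hMn hx)] at this
      · have h3 := cj_mono x⁻¹ hQ
        rw [cj_eq_of_mem_normalizer (hMn (inv_mem hx))] at h3
        have h4 := hSyl.2.2 (cj x⁻¹ Q) h3 (isPGroup_cj _ h2) (cj_le_iff.1 hle)
        rw [← h4, cj_cj_inv]
    obtain ⟨y, hy, e⟩ := syl_conj hSyl h1
    -- `y = f r`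
    have hRF : R₀ ≤ normalizer (F : Set G) := (inf_le_left.trans hTH).trans hFn
    have hy' : y ∈ ((F ⊔ R₀ : Subgroup G) : Set G) := by rw [h3]; exact hy
    rw [Subgroup.coe_mul_of_right_le_normalizer_left _ _ hRF, Set.mem_mul] at hy'
    obtain ⟨f, hf, r, hr, rfl⟩ := hy'
    refine ⟨f, hf, f⁻¹ * x, mul_mem (inv_mem (hFH hf)) hx, ?_, by group⟩
    rw [mem_normalizer_iff_cj, ← cj_cj, ← e, cj_cj, inv_mul_cancel_left,
      cj_eq_of_mem_normalizer (Subgroup.le_normalizer hr)]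
  -- `E = C_N(R₀)` is normalised by `H`
  set E : Subgroup G := N ⊓ centralizer (R₀ : Set G) with hE
  have hEn : H ≤ normalizer (E : Set G) := by
    intro x hx
    obtain ⟨f, hf, n, hnH, hnR, rfl⟩ := hfr x hx
    refine mul_mem ?_ ?_
    · refine centralizer_le_normalizer _ (centralizer_le ?_ hf.2)
      exact_mod_cast (inf_le_left : E ≤ N)
    · rw [mem_normalizer_iff_cj, hE, cj_inf, cj_centralizer, cj_eq_of_mem_normalizer (hNn hnH),
        cj_eq_of_mem_normalizer hnR]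
  have h2 : z ≤ E := by
    refine le_inf hzN (hzT.trans (centralizer_le ?_))
    exact_mod_cast (inf_le_left : R₀ ≤ T)
  have h4 : N ≤ E := hgen E h2 hEn
  have h5 : R₀ ≤ centralizer (N : Set G) := by
    rw [le_centralizer_iff]
    exact h4.trans inf_le_right
  have h6 : M ≤ centralizer (N : Set G) := by
    rw [← h3]
    exact sup_le inf_le_right h5
  exact le_sup_right.trans h6

theorem coreP_of {Z : Fin 2 → Subgroup G} {i : Fin 2} {T z : Subgroup G} (hT : Syl T (HH (Z i)))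
    (hzN : z ≤ PT.NN Z (Z i)) (hzT : z ≤ centralizer (T : Set G))
    (hgen : ∀ E : Subgroup G, z ≤ E → HH (Z i) ≤ normalizer (E : Set G) → PT.NN Z (Z i) ≤ E) : PT.Pc.CoreP Z i :=
  fun _ hJ hn hsq => core_gen (PT.PP.HH_le_NN (Z i)) hT hzN hzT hgen hJ hn hsq

/-- `O₂(H_i / C(N_i)) = 1` if `[Z (i+1), T] = 1`. -/
theorem coreP {Z U : Fin 2 → Subgroup G} (P : PT.PP Z U) {i : Fin 2} {T : Subgroup G} (hT : Syl T (HH (Z i)))
    (hzT : Z (i + 1) ≤ centralizer (T : Set G)) : PT.Pc.CoreP Z i := by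
  refine coreP_of hT (PT.adj Z i).le_NN hzT fun E hE hn => sSup_le fun u hu => ?_
  obtain ⟨g, h1, rfl⟩ := P.con (PT.adj Z i) hu
  have h2 : g ∈ HH (Z i) := mem_normalizer_iff_cj.2 h1
  rw [← NOThreeL.Pair.conj_eq_of_mem (hn h2)]
  exact NoFF.Basic.conj_le_iff.2 hE

/-- **(6)** for a Sylow 2-subgroup `T` of `N_G(Z 0)`, `N_G(Z 1)` with `C_{N_i}(T) ≤ Z_0Z_1`. -/
theorem com_T {Z U : Fin 2 → Subgroup G} (P : PT.PP Z U) (X : PT.XF Z (PT.XW Z U)) (hti : PT.TIp Z)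
    (hfus : ∀ a, PT.IsPt Z a → ∀ x ∈ a, x ∈ Z 0 ⊔ Z 1 → x ≠ 1 → a = Z 0 ∨ a = Z 1)
    (htra : ∀ i, ∀ x ∈ U i, x ≠ 1 → ∃ l : G, x ∈ MulAut.conj l • Z i ∧ MulAut.conj l • Z (i + 1) = Z (i + 1) ∧
      MulAut.conj l • U i = U i ∧ MulAut.conj l • U (i + 1) = U (i + 1))
    (hcard : ∀ i, Nat.card (U i) = Nat.card (Z i) ^ 2)
    (hcore : ∀ i, PT.Pc.CoreP Z i) {T : Subgroup G} (hT2 : IsPGroup 2 T) (hTZ : ∀ i, T ≤ normalizer (Z i : Set G))
    (hfix : ∀ i, PT.NN Z (Z i) ⊓ centralizer (T : Set G) ≤ Z 0 ⊔ Z 1)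
    (hint : PT.NN Z (Z 0) ⊓ PT.NN Z (Z 1) ≤ Z 0 ⊔ Z 1) : PT.Com Z (Z 0) (Z 1) := by
  have H : TIn Z U T :=
    { P := P
      X := X
      ti := hti
      fus := hfus
      tra := htra
      cardU := hcard
      core := hcore
      B2 := hT2
      BZ := hTZ
      int := hint
      Bfix := fun i n hn h => hfix i ⟨hn, mem_centralizer_iff.2 fun t ht => by
        rw [← mul_inv_eq_iff_eq_mul]; exact h t ht⟩ }
  exact H.com

/-- `C_{N_i}(T) ≤ Ω₁Z(T)` -/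
theorem fix_T {Z U : Fin 2 → Subgroup G} (P : PT.PP Z U) {i : Fin 2} {T : Subgroup G} (hT : Syl T (HH (Z i))) :
    PT.NN Z (Z i) ⊓ centralizer (T : Set G) ≤ zc T := by
  rintro n ⟨hn, hnT⟩
  refine MinSimple.VModule.mem_zc.2 ⟨o2_le_syl hT (P.N_le_Q i hn), fun t ht => mem_centralizer_iff.1 hnT t ht, ?_⟩
  exact (NO3S.EThree.ExactA.eab_iff.1 (P.NN_eab (PT.isPt Z i))).2 n hn

end Cfsg.Agent.Omega.OM.TV

end

section


/-!
# TEXT W2 (6) over `PTW`

`PTW.six` : `[N_0, N_1] = 1`.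
-/

set_option autoImplicit false
set_option linter.unusedSectionVars false

namespace Cfsg.Agent.Omega.OM.PT

open Subgroup Cfsg Cfsg.Agent.ZN Cfsg.Agent.Omega.MinPar
open scoped Pointwise

universe u

variable {G : Type u} [Group G] [Finite G]

/-- the inputs of (6) -/
theorem PTW.tin {Z U : Fin 2 → Subgroup G} {B : Subgroup G} (D : PTW Z U B) : TV.TIn Z U B where
  P := D.toPP
  X := xf D.toPP D.ab D.le
  ti := D.ti
  fus := by
    intro a ha x hx hx' hx1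
    rcases D.fus2 a ha x hx hx' with h | h
    · left
      by_contra hne
      exact hx1 (ti_one D.ti ha (isPt Z 0) hne hx h)
    · right
      by_contra hne
      exact hx1 (ti_one D.ti ha (isPt Z 1) hne hx h)
  tra := by
    intro i x hx hx1
    obtain ⟨k, hk, hxk⟩ := D.pts i x hx hx1
    obtain ⟨l, h1, h2, h3, h4⟩ := D.tr i k hk
    exact ⟨l, by rw [h1]; exact hxk, h2, h3, h4⟩
  cardU := fun i => by rw [(D.rt i).2.1, pow_two]
  core := D.core
  B2 := D.B2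
  BZ := D.BH
  int := D.inter
  Bfix := D.Bfix

/-- **TEXT W2 (6)** -/
theorem PTW.six {Z U : Fin 2 → Subgroup G} {B : Subgroup G} (D : PTW Z U B) :
    NN Z (Z 0) ≤ centralizer (NN Z (Z 1) : Set G) := D.tin.com

end Cfsg.Agent.Omega.OM.PT

end

end
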